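import Groth.Prelude.Def_W4c1liftfrobW2
import Mathlib.RingTheory.WittVector.Identities
import Mathlib.RingTheory.WittVector.Domain
import Mathlib.RingTheory.Flat.EquationalCriterion
import Mathlib.RingTheory.Flat.Tensor
import Mathlib.RingTheory.Noetherian.Basic
import Mathlib.Algebra.CharP.Lemmas

/-!
Liftings over `W₂(k)`: reformulation of `IsLift` in terms of multiplication by `p`.
-/

universe u v

open TensorProduct

namespace Groth.Agent.W2Lift

open FrobAlg

set_option linter.unusedSectionVars false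
set_option linter.style.haveILetI false

variable {p : ℕ} [hp : Fact p.Prime] {k : Type u} [CommRing k] [CharP k p]

lemma coeff_mul_p (x : W2 p k) :
    (x * (p : W2 p k)).coeff 0 = 0 ∧ (x * (p : W2 p k)).coeff 1 = x.coeff 0 ^ p := by
  obtain ⟨X, rfl⟩ := WittVector.truncate_surjective p 2 k x
  rw [← map_natCast (WittVector.truncate (p := p) (R := k) 2) p, ← map_mul, WittVector.coeff_truncate,
    WittVector.coeff_truncate, WittVector.coeff_truncate]
  exact ⟨WittVector.mul_charP_coeff_zero X, WittVector.mul_charP_coeff_succ X 0⟩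

lemma res_p : res p k (p : W2 p k) = 0 := by rw [map_natCast, CharP.cast_eq_zero]

lemma p_mul_p : (p : W2 p k) * p = 0 := by
  refine TruncatedWittVector.ext fun i => ?_
  have h := coeff_mul_p (p : W2 p k)
  have h0 : ((p : W2 p k)).coeff 0 = 0 := by
    have := res_p (p := p) (k := k)
    rwa [res_apply] at this
  rw [TruncatedWittVector.coeff_zero]
  fin_cases i
  · exact h.1
  · exact h.2.trans (by rw [h0, zero_pow hp.out.ne_zero])

variable [PerfectRing k p]

lemma exists_eq_mul_p {x : W2 p k} (hx : res p k x = 0) : ∃ y, x = y * (p : W2 p k) := by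
  obtain ⟨b, hb⟩ := (PerfectRing.bijective_frobenius (R := k) (p := p)).2 (x.coeff 1)
  obtain ⟨Y, hY⟩ : ∃ Y : WittVector p k, Y.coeff 0 = b := ⟨WittVector.mk p fun _ => b, rfl⟩
  refine ⟨WittVector.truncate 2 Y, TruncatedWittVector.ext fun i => ?_⟩
  have h := coeff_mul_p (WittVector.truncate 2 Y)
  rw [WittVector.coeff_truncate] at h
  fin_cases i
  · exact (show x.coeff 0 = 0 by rwa [res_apply] at hx).trans h.1.symm
  · exact (show x.coeff 1 = b ^ p from hb.symm).trans (by rw [← hY]; exact h.2.symm)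

lemma ker_res : RingHom.ker (res p k) = Ideal.span {(p : W2 p k)} := by
  refine le_antisymm (fun x hx => ?_) ?_
  · obtain ⟨y, rfl⟩ := exists_eq_mul_p hx
    exact Ideal.mul_mem_left _ _ (Ideal.mem_span_singleton_self _)
  · rw [Ideal.span_le, Set.singleton_subset_iff]; exact res_p

lemma map_ker_res {B : Type*} [CommRing B] (ι : W2 p k →+* B) :
    Ideal.map ι (RingHom.ker (res p k)) = Ideal.span {(p : B)} := by
  rw [ker_res, Ideal.map_span, Set.image_singleton, map_natCast]

lemma res_eq_zero_of_mul_p [IsReduced k] {x : W2 p k} (hx : x * (p : W2 p k) = 0) : res p k x = 0 := by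
  have h := (coeff_mul_p x).2
  rw [hx, TruncatedWittVector.coeff_zero] at h
  rw [res_apply]
  exact eq_zero_of_pow_eq_zero h.symm

lemma isUnit_of_res {x : W2 p k} (h : IsUnit (res p k x)) : IsUnit x := by
  obtain ⟨u, hu⟩ := h
  let U : W2 p k := WittVector.truncate 2 (WittVector.mk p fun _ => (↑u⁻¹ : k))
  have : res p k (x * U - 1) = 0 := by
    rw [map_sub, map_mul, map_one, ← hu, res_truncate]
    simp
  obtain ⟨y, hy⟩ := exists_eq_mul_p this
  have hn : IsNilpotent (x * U - 1) := ⟨2, by rw [hy, mul_pow, sq (p : W2 p k), p_mul_p, mul_zero]⟩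
  have := hn.isUnit_add_left_of_commute isUnit_one (Commute.all _ _)
  rw [add_sub_cancel] at this
  exact isUnit_of_mul_isUnit_left this

variable {B : Type v} [CommRing B]

lemma mul_p_mem {ι : W2 p k →+* B} (h : ι.Flat) [IsReduced k] {b : B} (hb : (p : B) * b = 0) :
    ∃ c, b = (p : B) * c := by
  algebraize [ι]
  haveI : Module.Flat (W2 p k) B := h
  obtain ⟨κ, a, y, hy, ha⟩ := Module.Flat.isTrivialRelation_of_sum_smul_eq_zero
    (R := W2 p k) (M := B) (ι := Unit) (f := fun _ => (p : W2 p k)) (x := fun _ => b)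
    (by simp [Algebra.smul_def, map_natCast, hb])
  choose z hz using fun j => exists_eq_mul_p (res_eq_zero_of_mul_p (x := a () j) (by
    have := ha j; simpa [mul_comm] using this))
  refine ⟨∑ j, ι (z j) * y j, ?_⟩
  rw [Finset.mul_sum]
  refine (hy ()).trans (Finset.sum_congr rfl fun j _ => ?_)
  rw [hz j, Algebra.smul_def, map_mul, map_natCast]
  show ι (z j) * p * y j = _
  ring

section Field

variable {k : Type u} [Field k] [CharP k p] [PerfectRing k p]

lemma ideal_W2 (I : Ideal (W2 p k)) : I = ⊤ ∨ I ≤ Ideal.span {(p : W2 p k)} := by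
  by_cases h : ∃ x ∈ I, res p k x ≠ 0
  · obtain ⟨x, hx, hx0⟩ := h
    exact .inl (Ideal.eq_top_of_isUnit_mem _ hx (isUnit_of_res (isUnit_iff_ne_zero.2 hx0)))
  · push Not at h
    refine .inr fun x hx => ?_
    rw [← ker_res]
    exact h x hx

lemma flat_of_mul_p (ι : W2 p k →+* B) (h : ∀ b : B, (p : B) * b = 0 → ∃ c, b = (p : B) * c) :
    ι.Flat := by
  algebraize [ι]
  rw [RingHom.Flat, Module.Flat.iff_lift_lsmul_comp_subtype_injective]
  rintro I -
  have key : ∀ g : W2 p k, ∀ hg : g ∈ I, (∀ x ∈ I, ∃ c, c * g = x) →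
      (∀ b : B, g • b = 0 → (⟨g, hg⟩ : I) ⊗ₜ[W2 p k] b = 0) →
      Function.Injective (TensorProduct.lift ((LinearMap.lsmul (W2 p k) B).comp I.subtype)) := by
    intro g hg hspan hz
    refine (injective_iff_map_eq_zero _).2 fun t ht => ?_
    obtain ⟨b, rfl⟩ : ∃ b : B, t = (⟨g, hg⟩ : I) ⊗ₜ[W2 p k] b := by
      clear ht
      induction t using TensorProduct.induction_on with
      | zero => exact ⟨0, by simp⟩
      | add t t' ht ht' =>
        obtain ⟨b, rfl⟩ := ht; obtain ⟨b', rfl⟩ := ht'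
        exact ⟨b + b', by rw [TensorProduct.tmul_add]⟩
      | tmul a b =>
        obtain ⟨c, hc⟩ := hspan a a.2
        refine ⟨c • b, ?_⟩
        rw [← TensorProduct.smul_tmul]
        congr 1
        exact Subtype.ext hc.symm
    exact hz b (by simpa using ht)
  rcases ideal_W2 I with hI | hI
  · refine key 1 (by rw [hI]; exact Submodule.mem_top) (fun x _ => ⟨x, mul_one x⟩) fun b hb => ?_
    rw [one_smul] at hb
    rw [hb, TensorProduct.tmul_zero]
  by_cases hb : I = ⊥
  · refine key 0 I.zero_mem (fun x hx => ⟨0, ?_⟩) fun b _ => ?_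
    · rw [hb, Ideal.mem_bot] at hx; rw [hx, mul_zero]
    · rw [show (⟨0, I.zero_mem⟩ : I) = 0 from rfl, TensorProduct.zero_tmul]
  obtain ⟨x, hx, hx0⟩ := Submodule.exists_mem_ne_zero_of_ne_bot hb
  obtain ⟨y, rfl⟩ := Ideal.mem_span_singleton'.1 (hI hx)
  have hy : IsUnit y := isUnit_of_res (isUnit_iff_ne_zero.2 fun h0 => hx0 (by
    obtain ⟨z, rfl⟩ := exists_eq_mul_p h0
    rw [mul_assoc, p_mul_p, mul_zero]))
  have hpI : (p : W2 p k) ∈ I := by rwa [Ideal.unit_mul_mem_iff_mem I hy] at hx
  refine key (p : W2 p k) hpI (fun x hx => Ideal.mem_span_singleton'.1 (hI hx)) fun b hb => ?_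
  rw [Algebra.smul_def, map_natCast] at hb
  obtain ⟨c, rfl⟩ := h b hb
  rw [show (p : B) * c = (p : W2 p k) • c by rw [Algebra.smul_def, map_natCast],
    ← TensorProduct.smul_tmul,
    show (p : W2 p k) • (⟨(p : W2 p k), hpI⟩ : I) = 0 from Subtype.ext p_mul_p,
    TensorProduct.zero_tmul]

variable {A : Type v} [CommRing A] [Algebra k A] {ι : W2 p k →+* B} {π : B →+* A}

lemma mul_p_eq_zero (ι : W2 p k →+* B) : (p : B) * p = 0 := by
  rw [← map_natCast ι p, ← map_mul, p_mul_p, map_zero]

theorem isLift_iff : IsLift p k A B ι π ↔ Function.Surjective π ∧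
    RingHom.ker π = Ideal.span {(p : B)} ∧ (∀ b, (p : B) * b = 0 → π b = 0) ∧
    π.comp ι = (algebraMap k A).comp (res p k) := by
  constructor
  · intro h
    have hk : RingHom.ker π = Ideal.span {(p : B)} := h.ker_eq.trans (map_ker_res ι)
    refine ⟨h.surj, hk, fun b hb => ?_, h.comm⟩
    obtain ⟨c, rfl⟩ := mul_p_mem h.flat hb
    show _ ∈ RingHom.ker π
    rw [hk]
    exact Ideal.mul_mem_right _ _ (Ideal.mem_span_singleton_self _)
  · rintro ⟨hs, hk, ht, hc⟩
    refine ⟨flat_of_mul_p ι fun b hb => ?_, hs, hk.trans (map_ker_res ι).symm, hc⟩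
    have : b ∈ RingHom.ker π := ht b hb
    rw [hk, Ideal.mem_span_singleton] at this
    exact this

section Lift

variable (h : IsLift p k A B ι π)
include h

lemma exists_div {x : B} (hx : π x = 0) : ∃ a : A, ∀ y, π y = a → x = (p : B) * y := by
  obtain ⟨-, hk, ht, -⟩ := isLift_iff.1 h
  have : x ∈ Ideal.span {(p : B)} := hk ▸ hx
  obtain ⟨y, rfl⟩ := Ideal.mem_span_singleton.1 this
  refine ⟨π y, fun y' hy' => ?_⟩
  have : y - y' ∈ Ideal.span {(p : B)} := hk ▸ (show π (y - y') = 0 by rw [map_sub, hy', sub_self])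
  obtain ⟨z, hz⟩ := Ideal.mem_span_singleton.1 this
  rw [← sub_eq_zero, ← mul_sub, hz, ← mul_assoc, mul_p_eq_zero ι, zero_mul]

/-- For `x` in the kernel of `π`, the `a` with `x = p * ã`. -/
noncomputable def divP (x : B) : A := @dite A (π x = 0) (Classical.dec _) (fun hx => (exists_div h hx).choose) fun _ => 0

lemma divP_spec {x : B} (hx : π x = 0) {y : B} (hy : π y = divP h x) : x = (p : B) * y := by
  rw [divP, dif_pos hx] at hy
  exact (exists_div h hx).choose_spec y hy

lemma divP_eq {x y : B} (e : x = (p : B) * y) : divP h x = π y := by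
  obtain ⟨hs, -, ht, -⟩ := isLift_iff.1 h
  have hp0 : π (p : B) = 0 := by
    show _ ∈ RingHom.ker π
    rw [(isLift_iff.1 h).2.1]; exact Ideal.mem_span_singleton_self _
  have hx : π x = 0 := by rw [e, map_mul, hp0, zero_mul]
  obtain ⟨y', hy'⟩ := hs (divP h x)
  have h1 := divP_spec h hx hy'
  have := ht (y' - y) (by rw [mul_sub, ← h1, ← e, sub_self])
  rw [map_sub, sub_eq_zero] at this
  exact hy'.symm.trans this

lemma divP_add {x y : B} (hx : π x = 0) (hy : π y = 0) : divP h (x + y) = divP h x + divP h y := by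
  obtain ⟨a, ha⟩ := h.surj (divP h x)
  obtain ⟨b, hb⟩ := h.surj (divP h y)
  rw [divP_eq h (y := a + b) (by rw [mul_add, ← divP_spec h hx ha, ← divP_spec h hy hb]), map_add, ha, hb]

lemma divP_mul {x : B} (y : B) (hx : π x = 0) : divP h (y * x) = π y * divP h x := by
  obtain ⟨a, ha⟩ := h.surj (divP h x)
  rw [divP_eq h (y := y * a) (by rw [mul_left_comm, ← divP_spec h hx ha]), map_mul, ha]

lemma divP_zero : divP h 0 = 0 := by
  rw [divP_eq h (y := 0) (mul_zero _).symm, map_zero]

end Lift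

end Field

end Groth.Agent.W2Lift
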