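import Groth.Agent.Lib.W2Lift.Basic

/-!
Flat modules over `W₂(k)`.
-/

universe u v

open TensorProduct

namespace Groth.Agent.W2Lift

open FrobAlg

set_option linter.unusedSectionVars false

variable {p : ℕ} [hp : Fact p.Prime] {k : Type u} [Field k] [CharP k p] [PerfectRing k p]

theorem flat_iff_torsion {M : Type v} [AddCommGroup M] [Module (W2 p k) M] :
    Module.Flat (W2 p k) M ↔
      ∀ m : M, (p : W2 p k) • m = 0 → ∃ m' : M, m = (p : W2 p k) • m' := by
  constructor
  · intro _ m hm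
    obtain ⟨κ, a, y, hy, ha⟩ := Module.Flat.isTrivialRelation_of_sum_smul_eq_zero
      (R := W2 p k) (M := M) (ι := Unit) (f := fun _ => (p : W2 p k)) (x := fun _ => m)
      (by simpa using hm)
    choose z hz using fun j => exists_eq_mul_p (res_eq_zero_of_mul_p (x := a () j) (by
      have := ha j; simpa [mul_comm] using this))
    refine ⟨∑ j, z j • y j, ?_⟩
    rw [Finset.smul_sum]
    refine (hy ()).trans (Finset.sum_congr rfl fun j _ => ?_)
    rw [hz j, mul_comm, mul_smul]
  · intro h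
    rw [Module.Flat.iff_lift_lsmul_comp_subtype_injective]
    rintro I -
    have key : ∀ g : W2 p k, ∀ hg : g ∈ I, (∀ x ∈ I, ∃ c, c * g = x) →
        (∀ b : M, g • b = 0 → (⟨g, hg⟩ : I) ⊗ₜ[W2 p k] b = 0) →
        Function.Injective (TensorProduct.lift ((LinearMap.lsmul (W2 p k) M).comp I.subtype)) := by
      intro g hg hspan hz
      refine (injective_iff_map_eq_zero _).2 fun t ht => ?_
      obtain ⟨b, rfl⟩ : ∃ b : M, t = (⟨g, hg⟩ : I) ⊗ₜ[W2 p k] b := by
        clear ht
        induction t using TensorProduct.induction_on with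
        | zero => exact ⟨0, by simp⟩
        | add t t' ht ht' =>
          obtain ⟨b, rfl⟩ := ht; obtain ⟨b', rfl⟩ := ht'
          exact ⟨b + b', by rw [TensorProduct.tmul_add]⟩
        | tmul a b =>
          obtain ⟨c, hc⟩ := hspan a a.2
          refine ⟨c • b, ?_⟩
          rw [← TensorProduct.smul_tmul]
          congr 1
          exact Subtype.ext hc.symm
      exact hz b (by simpa using ht)
    rcases ideal_W2 I with hI | hI
    · refine key 1 (by rw [hI]; exact Submodule.mem_top) (fun x _ => ⟨x, mul_one x⟩) fun b hb => ?_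
      rw [one_smul] at hb
      rw [hb, TensorProduct.tmul_zero]
    by_cases hb : I = ⊥
    · refine key 0 I.zero_mem (fun x hx => ⟨0, ?_⟩) fun b _ => ?_
      · rw [hb, Ideal.mem_bot] at hx; rw [hx, mul_zero]
      · rw [show (⟨0, I.zero_mem⟩ : I) = 0 from rfl, TensorProduct.zero_tmul]
    obtain ⟨x, hx, hx0⟩ := Submodule.exists_mem_ne_zero_of_ne_bot hb
    obtain ⟨y, rfl⟩ := Ideal.mem_span_singleton'.1 (hI hx)
    have hy : IsUnit y := isUnit_of_res (isUnit_iff_ne_zero.2 fun h0 => hx0 (by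
      obtain ⟨z, rfl⟩ := exists_eq_mul_p h0
      rw [mul_assoc, p_mul_p, mul_zero]))
    have hpI : (p : W2 p k) ∈ I := by rwa [Ideal.unit_mul_mem_iff_mem I hy] at hx
    refine key (p : W2 p k) hpI (fun x hx => Ideal.mem_span_singleton'.1 (hI hx)) fun b hb => ?_
    obtain ⟨c, rfl⟩ := h b hb
    rw [← TensorProduct.smul_tmul,
      show (p : W2 p k) • (⟨(p : W2 p k), hpI⟩ : I) = 0 from Subtype.ext p_mul_p, TensorProduct.zero_tmul]

theorem flat_quotient_iff {B : Type v} [CommRing B] [Algebra (W2 p k) B] [Module.Flat (W2 p k) B]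
    (J : Ideal B) : Module.Flat (W2 p k) (B ⧸ J) ↔
      Ideal.span {(p : B)} ⊓ J = Ideal.span {(p : B)} * J := by
  have hB : ∀ m : B, (p : B) * m = 0 → ∃ m' : B, m = (p : B) * m' := fun m hm => by
    obtain ⟨m', hm'⟩ := flat_iff_torsion.1 ‹Module.Flat (W2 p k) B› m (by
      rw [Algebra.smul_def, map_natCast, hm])
    exact ⟨m', by rw [hm', Algebra.smul_def, map_natCast]⟩
  have hs : ∀ b : B, (p : W2 p k) • Ideal.Quotient.mk J b = Ideal.Quotient.mk J ((p : B) * b) := fun b => by
    rw [Algebra.smul_def, map_natCast, map_mul, map_natCast]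
  rw [flat_iff_torsion]
  constructor
  · intro h
    refine le_antisymm (fun x hx => ?_) Ideal.mul_le_inf
    obtain ⟨b, rfl⟩ := Ideal.mem_span_singleton.1 hx.1
    obtain ⟨m', hm'⟩ := h (Ideal.Quotient.mk J b) (by rw [hs, Ideal.Quotient.eq_zero_iff_mem]; exact hx.2)
    obtain ⟨c, rfl⟩ := Ideal.Quotient.mk_surjective m'
    rw [hs, Ideal.Quotient.eq] at hm'
    rw [show (p : B) * b = (p : B) * (b - (p : B) * c) by
      rw [mul_sub, ← mul_assoc, mul_p_eq_zero (algebraMap (W2 p k) B), zero_mul, sub_zero]]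
    exact Ideal.mul_mem_mul (Ideal.mem_span_singleton_self _) hm'
  · intro h m hm
    obtain ⟨b, rfl⟩ := Ideal.Quotient.mk_surjective m
    rw [hs, Ideal.Quotient.eq_zero_iff_mem] at hm
    have : (p : B) * b ∈ Ideal.span {(p : B)} * J :=
      h ▸ ⟨Ideal.mul_mem_right _ _ (Ideal.mem_span_singleton_self _), hm⟩
    obtain ⟨j, hj, hjb⟩ := Ideal.mem_span_singleton_mul.1 this
    obtain ⟨c, hc⟩ := hB (b - j) (by rw [mul_sub, hjb, sub_self])
    refine ⟨Ideal.Quotient.mk J c, ?_⟩
    rw [hs, Ideal.Quotient.eq, ← hc, sub_sub_cancel]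
    exact hj

end Groth.Agent.W2Lift
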