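import Groth.Agent.Lib.W2Lift.Basic

/-!
Descending a lift of Frobenius along a linear retraction.
-/

universe u v

namespace Groth.Agent.W2Lift

open FrobAlg

set_option linter.unusedSectionVars false

variable {p : ℕ} [hp : Fact p.Prime] {k : Type u} [Field k] [CharP k p] [PerfectRing k p]

/-- `((a + b) ^ p - a ^ p - b ^ p) / p`. -/
def cross (p : ℕ) {R : Type*} [CommRing R] (a b : R) : R :=
  a * b * ∑ i ∈ Finset.Ioo 0 p, a ^ (i - 1) * b ^ (p - i - 1) * ((p.choose i / p : ℕ) : R)

lemma add_pow_cross {R : Type*} [CommRing R] (a b : R) :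
    (a + b) ^ p = a ^ p + b ^ p + (p : R) * cross p a b := by
  rw [add_pow_prime_eq hp.out, cross]; ring

lemma map_cross {R S : Type*} [CommRing R] [CommRing S] (f : R →+* S) (a b : R) :
    f (cross p a b) = cross p (f a) (f b) := by
  simp [cross, map_sum]

theorem exists_frobLift {A B : Type v} [CommRing A] [CommRing B] [Algebra k A] [Algebra k B]
    [Algebra A B] [IsScalarTower k A B] (r : B →ₗ[A] A) (hr : ∀ a : A, r (algebraMap A B a) = a)
    {A' B' : Type v} [CommRing A'] [CommRing B']
    {ιA : W2 p k →+* A'} {πA : A' →+* A} (hA : IsLift p k A A' ιA πA)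
    {ιB : W2 p k →+* B'} {πB : B' →+* B} (hB : IsLift p k B B' ιB πB)
    (φ' : A' →+* B') (hφι : φ'.comp ιA = ιB) (hφπ : πB.comp φ' = (algebraMap A B).comp πA)
    {ΦB : B' →+* B'} (hΦB : IsFrobLift p k B B' ιB πB ΦB) :
    ∃ ΦA : A' →+* A', IsFrobLift p k A A' ιA πA ΦA := by
  classical
  have hpp : (p : A') * p = 0 := mul_p_eq_zero ιA
  have hppB : (p : B') * p = 0 := mul_p_eq_zero ιB
  have hpA : πA (p : A') = 0 := by
    show _ ∈ RingHom.ker πA
    rw [(isLift_iff.1 hA).2.1]; exact Ideal.mem_span_singleton_self _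
  have hφπ' : ∀ a, πB (φ' a) = algebraMap A B (πA a) := RingHom.congr_fun hφπ
  let j : A → A' := fun a => (p : A') * Function.surjInv hA.surj a
  have hj : ∀ a x, πA x = a → j a = (p : A') * x := by
    intro a x hx
    have h0 : πA (Function.surjInv hA.surj a - x) = 0 := by
      rw [map_sub, Function.surjInv_eq hA.surj, hx, sub_self]
    change _ ∈ RingHom.ker πA at h0
    rw [(isLift_iff.1 hA).2.1, Ideal.mem_span_singleton] at h0
    obtain ⟨z, hz⟩ := h0
    show (p : A') * _ = _
    rw [← sub_eq_zero, ← mul_sub, hz, ← mul_assoc, hpp, zero_mul]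
  have hjadd : ∀ a b, j (a + b) = j a + j b := fun a b => by
    rw [hj (a + b) (Function.surjInv hA.surj a + Function.surjInv hA.surj b)
      (by rw [map_add, Function.surjInv_eq hA.surj, Function.surjInv_eq hA.surj]), mul_add]
  have hjmul : ∀ a y, j (πA y * a) = y * j a := fun a y => by
    rw [hj (πA y * a) (y * Function.surjInv hA.surj a)
      (by rw [map_mul, Function.surjInv_eq hA.surj])]
    show (p : A') * _ = y * ((p : A') * _)
    ring
  have hjj : ∀ a b, j a * j b = 0 := fun a b => by
    show (p : A') * _ * ((p : A') * _) = 0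
    rw [mul_mul_mul_comm, hpp, zero_mul]
  have hred : ∀ b, πB (ΦB b - b ^ p) = 0 := fun b => by rw [map_sub, hΦB.red, map_pow, sub_self]
  let D : B' → B := fun b => divP hB (ΦB b - b ^ p)
  have hD : ∀ b, ∃ y, πB y = D b ∧ ΦB b = b ^ p + (p : B') * y := fun b => by
    obtain ⟨y, hy⟩ := hB.surj (D b)
    refine ⟨y, hy, ?_⟩
    rw [← divP_spec hB (hred b) hy]; ring
  have hDmul : ∀ a b, D (a * b) = πB a ^ p * D b + D a * πB b ^ p := by
    intro a b
    obtain ⟨y, hy, ha⟩ := hD a
    obtain ⟨z, hz, hb⟩ := hD b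
    show divP hB _ = _
    rw [divP_eq hB (y := a ^ p * z + y * b ^ p)]
    · simp [hy, hz]
    · rw [map_mul, ha, hb, mul_pow]
      linear_combination (y * z) * hppB
  have hDadd : ∀ a b, D (a + b) = D a + D b - cross p (πB a) (πB b) := by
    intro a b
    obtain ⟨y, hy, ha⟩ := hD a
    obtain ⟨z, hz, hb⟩ := hD b
    show divP hB _ = _
    rw [divP_eq hB (y := y + z - cross p a b)]
    · simp [hy, hz, map_cross]
    · rw [map_add, ha, hb, add_pow_cross a b]; ring
  have hD0 : D 0 = 0 := by
    show divP hB _ = _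
    rw [map_zero, zero_pow hp.out.ne_zero, sub_zero, divP_zero]
  have hD1 : D 1 = 0 := by
    show divP hB _ = _
    rw [map_one, one_pow, sub_self, divP_zero]
  let E : A' → A := fun a => r (D (φ' a))
  have hEmul : ∀ a b, E (a * b) = πA a ^ p * E b + E a * πA b ^ p := by
    intro a b
    show r _ = _
    rw [map_mul, hDmul, hφπ', hφπ',
      show algebraMap A B (πA a) ^ p * D (φ' b) + D (φ' a) * algebraMap A B (πA b) ^ p =
        (πA a ^ p) • D (φ' b) + (πA b ^ p) • D (φ' a) by
        rw [Algebra.smul_def, Algebra.smul_def, map_pow, map_pow]; ring,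
      map_add, map_smul, map_smul, smul_eq_mul, smul_eq_mul]
    show _ = πA a ^ p * r (D (φ' b)) + r (D (φ' a)) * πA b ^ p
    ring
  have hEadd : ∀ a b, E (a + b) = E a + E b - cross p (πA a) (πA b) := by
    intro a b
    show r _ = _
    rw [map_add, hDadd, hφπ', hφπ', ← map_cross, map_sub, map_add, hr]
  let Φ : A' →+* A' :=
    { toFun := fun a => a ^ p + j (E a)
      map_one' := by
        show (1 : A') ^ p + j (r (D (φ' 1))) = 1
        rw [map_one, hD1, map_zero, hj 0 0 (map_zero _), mul_zero, one_pow, add_zero]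
      map_zero' := by
        show (0 : A') ^ p + j (r (D (φ' 0))) = 0
        rw [map_zero, hD0, map_zero, hj 0 0 (map_zero _), mul_zero, zero_pow hp.out.ne_zero, add_zero]
      map_mul' := fun a b => by
        rw [hEmul, hjadd, ← map_pow, hjmul, mul_comm (E a), ← map_pow, hjmul]
        linear_combination -(hjj (E a) (E b))
      map_add' := fun a b => by
        rw [hEadd, sub_eq_add_neg, hjadd, hjadd, add_pow_cross a b, ← map_cross, ← map_neg,
          hj _ _ rfl]
        ring }
  refine ⟨Φ, { toIsLift := hA, semi := RingHom.ext fun w => ?_, red := fun a => ?_ }⟩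
  · obtain ⟨u, hu⟩ : ∃ u, sigma p k w - w ^ p = u * (p : W2 p k) := exists_eq_mul_p (by
      rw [map_sub, map_pow, res_apply, res_apply, WittGrp.coeff_frob, sub_self])
    show ιA w ^ p + j (E (ιA w)) = ιA (sigma p k w)
    have hE : E (ιA w) = πA (ιA u) := by
      show r (divP hB _) = _
      rw [show φ' (ιA w) = ιB w from RingHom.congr_fun hφι w, divP_eq hB (y := ιB u)]
      · rw [← RingHom.comp_apply πB, hB.comm, ← RingHom.comp_apply πA, hA.comm, RingHom.comp_apply,
          RingHom.comp_apply, IsScalarTower.algebraMap_apply k A B, hr]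
      · have h1 := RingHom.congr_fun hΦB.semi w
        rw [RingHom.comp_apply, RingHom.comp_apply] at h1
        rw [h1, ← map_pow, ← map_sub, hu, map_mul, map_natCast, mul_comm]
    rw [hE, hj _ _ rfl, eq_add_of_sub_eq hu, map_add, map_mul, map_pow, map_natCast]
    ring
  · show πA (a ^ p + (p : A') * _) = _
    rw [map_add, map_mul, hpA, zero_mul, add_zero, map_pow]

end Groth.Agent.W2Lift
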