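import Groth.Agent.Lib.W2Lift.Basic
import Mathlib.RingTheory.MvPolynomial.Basic
import Mathlib.Data.Nat.Choose.Dvd

/-!
The Frobenius neighbourhood of a split quadric cone does not lift over `W₂`.
-/

universe u v

open MvPolynomial

namespace Groth.Agent.W2Lift

open FrobAlg

set_option linter.unusedSectionVars false

lemma exists_sum_pow {p : ℕ} [hp : Fact p.Prime] {R ι : Type*} [CommRing R] (s : Finset ι) (z : ι → R) :
    ∃ c, (∑ i ∈ s, z i) ^ p = ∑ i ∈ s, z i ^ p + (p : R) * c := by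
  classical
  induction s using Finset.induction_on with
  | empty => exact ⟨0, by simp [hp.out.ne_zero]⟩
  | insert a s ha ih =>
    obtain ⟨c, hc⟩ := ih
    obtain ⟨r, hr⟩ := exists_add_pow_prime_eq hp.out (z a) (∑ i ∈ s, z i)
    refine ⟨c + z a * (∑ i ∈ s, z i) * r, ?_⟩
    rw [Finset.sum_insert ha, Finset.sum_insert ha, hr, hc]; ring

section Zeta

/-- The substitution `z ↦ (z₀, z₁, -(z₀ + z₁), 0, …)`. -/
noncomputable def zeta (R : Type*) [CommRing R] (n : ℕ) (i : Fin n) : MvPolynomial (Fin 2) R :=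
  if (i : ℕ) = 0 then X 0 else if (i : ℕ) = 1 then X 1 else if (i : ℕ) = 2 then -(X 0 + X 1) else 0

lemma map_zeta {R S : Type*} [CommRing R] [CommRing S] (f : R →+* S) (n : ℕ) (i : Fin n) :
    MvPolynomial.map f (zeta R n i) = zeta S n i := by
  simp only [zeta]; split_ifs <;> simp

variable {R : Type*} [CommRing R] {n : ℕ}

lemma sum_zeta (hn : 3 ≤ n) : ∑ i, zeta R n i = 0 := by
  obtain ⟨m, rfl⟩ := Nat.exists_eq_add_of_le hn
  rw [Fin.sum_univ_add, Fin.sum_univ_three, Finset.sum_eq_zero fun i _ => ?_]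
  · simp [zeta]
  · simp [zeta, show ¬ 3 + (i : ℕ) = 1 by omega,
      show ¬ 3 + (i : ℕ) = 2 by omega]

lemma sum_zeta_pow {p : ℕ} (hp : p ≠ 0) (hn : 3 ≤ n) :
    ∑ i, zeta R n i ^ p = X 0 ^ p + X 1 ^ p + (-1 : MvPolynomial (Fin 2) R) ^ p * (X 0 + X 1) ^ p := by
  obtain ⟨m, rfl⟩ := Nat.exists_eq_add_of_le hn
  rw [Fin.sum_univ_add, Fin.sum_univ_three, Finset.sum_eq_zero fun i _ => ?_]
  · simp only [add_zero]
    simp [zeta, ← mul_pow, add_comm]
  · simp [zeta, show ¬ 3 + (i : ℕ) = 1 by omega,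
      show ¬ 3 + (i : ℕ) = 2 by omega, hp]

/-- The exponent `(1, p - 1)`. -/
noncomputable def mexp (p : ℕ) : Fin 2 →₀ ℕ := Finsupp.single 0 1 + Finsupp.single 1 (p - 1)

lemma coeff_X_pow_mul_eq_zero {p : ℕ} [hp : Fact p.Prime] (j : Fin 2) (g : MvPolynomial (Fin 2) R) :
    coeff (mexp p) (X j ^ p * g) = 0 := by
  rw [X_pow_eq_monomial, coeff_monomial_mul', if_neg]
  intro h
  have h' := h j
  have := hp.out.two_le
  fin_cases j <;> simp [mexp] at h' <;> omega

lemma coeff_zeta_pow_mul {p : ℕ} [hp : Fact p.Prime] [CharP R p] (i : Fin n) (g : MvPolynomial (Fin 2) R) :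
    coeff (mexp p) (zeta R n i ^ p * g) = 0 := by
  simp only [zeta]
  split_ifs
  · exact coeff_X_pow_mul_eq_zero 0 g
  · exact coeff_X_pow_mul_eq_zero 1 g
  · rw [neg_pow, add_pow_char, mul_comm ((-1 : MvPolynomial (Fin 2) R) ^ p),
      mul_assoc, add_mul, coeff_add, coeff_X_pow_mul_eq_zero, coeff_X_pow_mul_eq_zero, add_zero]
  · rw [zero_pow hp.out.ne_zero, zero_mul, coeff_zero]

lemma coeff_add_pow {p : ℕ} [hp : Fact p.Prime] :
    coeff (mexp p) ((X 0 + X 1 : MvPolynomial (Fin 2) R) ^ p) = (p : R) := by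
  classical
  have h2 := hp.out.two_le
  rw [add_pow, coeff_sum, Finset.sum_eq_single 1]
  · rw [X_pow_eq_monomial, X_pow_eq_monomial, monomial_mul, mul_one,
      show ((p.choose 1 : ℕ) : MvPolynomial (Fin 2) R) = C ((p.choose 1 : ℕ) : R) by simp,
      mul_comm, coeff_C_mul, coeff_monomial, if_pos (show Finsupp.single 0 1 + Finsupp.single 1 (p - 1) = mexp p from rfl),
      mul_one, Nat.choose_one_right]
  · intro j hj hj1
    rw [X_pow_eq_monomial, X_pow_eq_monomial, monomial_mul, mul_one,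
      show ((p.choose j : ℕ) : MvPolynomial (Fin 2) R) = C ((p.choose j : ℕ) : R) by simp,
      mul_comm, coeff_C_mul, coeff_monomial, if_neg, mul_zero]
    intro h
    have := congrArg (fun e : Fin 2 →₀ ℕ => e 0) h
    simp [mexp] at this
    exact hj1 this
  · intro h; simp at h; omega

end Zeta

variable {p : ℕ} [hp : Fact p.Prime] {k : Type u} [Field k] [CharP k p] [PerfectRing k p]

section Functional

variable {n : ℕ}

open Classical in
/-- The functional detecting the obstruction. -/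
noncomputable def balance : MvPolynomial (Fin n × Fin 2) k →ₗ[k] MvPolynomial (Fin 2) k :=
  (basisMonomials (Fin n × Fin 2) k).constr k fun e =>
    if ∀ i, e (i, 0) = e (i, 1) then ∏ i, zeta k n i ^ e (i, 0) else 0

open Classical in
lemma balance_monomial (e : Fin n × Fin 2 →₀ ℕ) :
    balance (monomial e (1 : k)) = if ∀ i, e (i, 0) = e (i, 1) then ∏ i, zeta k n i ^ e (i, 0) else 0 := by
  rw [← Module.Basis.constr_basis (basisMonomials (Fin n × Fin 2) k) k
    (fun e : Fin n × Fin 2 →₀ ℕ => if ∀ i, e (i, 0) = e (i, 1) then ∏ i, zeta k n i ^ e (i, 0) else 0) e,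
    coe_basisMonomials]
  rfl

lemma balance_one : balance (1 : MvPolynomial (Fin n × Fin 2) k) = 1 := by
  rw [show (1 : MvPolynomial (Fin n × Fin 2) k) = monomial 0 1 from (map_one (C : k →+* MvPolynomial (Fin n × Fin 2) k)).symm,
    balance_monomial]
  simp

lemma balance_XX_mul (i : Fin n) (h : MvPolynomial (Fin n × Fin 2) k) :
    balance (X (i, 0) * X (i, 1) * h) = zeta k n i * balance h := by
  classical
  suffices (balance.comp (LinearMap.mulLeft k (X (i, 0) * X (i, 1)))) =
      (LinearMap.mulLeft k (zeta k n i)).comp (balance (k := k) (n := n)) from LinearMap.congr_fun this h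
  refine (basisMonomials (Fin n × Fin 2) k).ext fun e => ?_
  simp only [coe_basisMonomials, LinearMap.comp_apply, LinearMap.mulLeft_apply]
  rw [X, X, monomial_mul, monomial_mul, one_mul, one_mul, balance_monomial, balance_monomial]
  have hv : ∀ (l : Fin n) (c : Fin 2), (Finsupp.single (i, (0 : Fin 2)) (1 : ℕ) + Finsupp.single (i, (1 : Fin 2)) (1 : ℕ) + e : Fin n × Fin 2 →₀ ℕ) (l, c) =
      (if l = i then 1 else 0) + e (l, c) := by
    intro l c
    fin_cases c <;> simp [Finsupp.single_apply, eq_comm]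
  simp only [hv, add_right_inj]
  split_ifs
  · simp only [pow_add, Finset.prod_mul_distrib, pow_ite, pow_one, pow_zero, Finset.prod_ite_eq',
      Finset.mem_univ, if_true]
  · rw [mul_zero]

lemma coeff_balance_pow_mul (v : Fin n × Fin 2) (h : MvPolynomial (Fin n × Fin 2) k) :
    coeff (mexp p) (balance (X v ^ p * h)) = 0 := by
  classical
  suffices ((lcoeff k (mexp p)).comp (balance.comp (LinearMap.mulLeft k (X v ^ p)))) = 0 from
    LinearMap.congr_fun this h
  refine (basisMonomials (Fin n × Fin 2) k).ext fun e => ?_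
  simp only [coe_basisMonomials, LinearMap.comp_apply, LinearMap.mulLeft_apply, lcoeff_apply, LinearMap.zero_apply]
  rw [X_pow_eq_monomial, monomial_mul, one_mul, balance_monomial]
  split_ifs with hb
  · rw [← Finset.mul_prod_erase _ _ (Finset.mem_univ v.1)]
    have hle : p ≤ (Finsupp.single v p + e) (v.1, 0) := by
      obtain ⟨a, c⟩ := v
      fin_cases c
      · simp
      · rw [hb a]; simp
    obtain ⟨m, hm⟩ := Nat.exists_eq_add_of_le hle
    rw [hm, pow_add, mul_assoc, coeff_zeta_pow_mul]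
  · exact coeff_zero _

/-- The ideal of the neighbourhood. -/
noncomputable def quadIdeal (p : ℕ) (k : Type u) [CommRing k] (n : ℕ) : Ideal (MvPolynomial (Fin n × Fin 2) k) :=
  Ideal.span (insert (∑ i : Fin n, MvPolynomial.X (i, (0 : Fin 2)) * MvPolynomial.X (i, (1 : Fin 2)))
    (Set.range fun v : Fin n × Fin 2 => (MvPolynomial.X v : MvPolynomial (Fin n × Fin 2) k) ^ p))

lemma coeff_balance_eq_zero (hn : 3 ≤ n) {f : MvPolynomial (Fin n × Fin 2) k} (hf : f ∈ quadIdeal p k n) :
    coeff (mexp p) (balance f) = 0 := by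
  suffices ∀ h, coeff (mexp p) (balance (h * f)) = 0 by simpa using this 1
  refine Submodule.span_induction (fun g hg h => ?_) (fun h => by simp) (fun a b _ _ ha hb h => ?_)
    (fun a g _ hg h => ?_) hf
  · rw [mul_comm]
    rcases hg with rfl | ⟨v, rfl⟩
    · show coeff (mexp p) (balance ((∑ i : Fin n, X (i, 0) * X (i, 1)) * h)) = 0
      have hz : balance ((∑ i : Fin n, X (i, 0) * X (i, 1)) * h) = 0 := by
        rw [Finset.sum_mul, map_sum, Finset.sum_congr rfl fun i _ => balance_XX_mul i h, ← Finset.sum_mul,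
          sum_zeta hn, zero_mul]
      rw [hz, coeff_zero]
    · exact coeff_balance_pow_mul v h
  · rw [mul_add, map_add, coeff_add, ha, hb, add_zero]
  · rw [smul_eq_mul, ← mul_assoc]; exact hg _

lemma balance_aeval (q : MvPolynomial (Fin n) k) :
    balance (aeval (fun i => (X (i, 0) * X (i, 1) : MvPolynomial (Fin n × Fin 2) k)) q) =
      aeval (zeta k n) q := by
  induction q using MvPolynomial.induction_on with
  | C c =>
    rw [aeval_C, aeval_C, Algebra.algebraMap_eq_smul_one, Algebra.algebraMap_eq_smul_one, map_smul, balance_one]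
  | add a b ha hb => rw [map_add, map_add, map_add, ha, hb]
  | mul_X q i hq => rw [map_mul (aeval _), aeval_X, mul_comm, balance_XX_mul, hq, map_mul, aeval_X, mul_comm]

end Functional

lemma obstruction_notMem {n : ℕ} (hn : 3 ≤ n) {c : MvPolynomial (Fin n) ℤ}
    (hc : (∑ i, X i) ^ p = ∑ i, X i ^ p + (p : MvPolynomial (Fin n) ℤ) * c) (r : k) :
    aeval (fun i => (X (i, 0) * X (i, 1) : MvPolynomial (Fin n × Fin 2) k))
      (MvPolynomial.map (Int.castRingHom k) c) - C r ∉ quadIdeal p k n := by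
  intro h3
  have h4 := coeff_balance_eq_zero hn h3
  have hr : coeff (mexp p) (balance (C r : MvPolynomial (Fin n × Fin 2) k)) = 0 := by
    rw [show (C r : MvPolynomial (Fin n × Fin 2) k) = r • 1 by
      rw [smul_eq_C_mul, mul_one], map_smul, balance_one, coeff_smul, coeff_one, if_neg, smul_zero]
    intro h
    have := congrArg (fun e : Fin 2 →₀ ℕ => e 0) h
    simp [mexp] at this
  rw [map_sub, coeff_sub, hr, sub_zero, balance_aeval] at h4
  -- compute over `ℤ`
  let d := aeval (zeta ℤ n) c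
  have hd : aeval (zeta k n) (MvPolynomial.map (Int.castRingHom k) c) = MvPolynomial.map (Int.castRingHom k) d := by
    have hh : ((aeval (zeta k n)).toRingHom).comp (MvPolynomial.map (Int.castRingHom k)) =
        (MvPolynomial.map (Int.castRingHom k)).comp (aeval (zeta ℤ n)).toRingHom :=
      MvPolynomial.ringHom_ext (fun r => by simp) (fun i => by simp [map_zeta])
    exact RingHom.congr_fun hh c
  rw [hd, coeff_map] at h4
  have h5 := congrArg (fun q => coeff (mexp p) (aeval (zeta ℤ n) q)) hc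
  simp only [map_pow, map_sum, map_add, map_mul, map_natCast, aeval_X, sum_zeta hn,
    sum_zeta_pow hp.out.ne_zero hn, zero_pow hp.out.ne_zero, coeff_zero, coeff_add] at h5
  rw [show (X (0 : Fin 2) : MvPolynomial (Fin 2) ℤ) ^ p = X 0 ^ p * 1 from (mul_one _).symm,
    show (X (1 : Fin 2) : MvPolynomial (Fin 2) ℤ) ^ p = X 1 ^ p * 1 from (mul_one _).symm,
    coeff_X_pow_mul_eq_zero, coeff_X_pow_mul_eq_zero, zero_add, zero_add,
    show ((-1 : MvPolynomial (Fin 2) ℤ)) ^ p = C ((-1 : ℤ) ^ p) by simp, coeff_C_mul, coeff_add_pow,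
    show ((p : MvPolynomial (Fin 2) ℤ)) = C (p : ℤ) by simp, coeff_C_mul, mul_comm ((-1 : ℤ) ^ p),
    ← mul_add] at h5
  have h6 : coeff (mexp p) d = -(-1) ^ p := by
    rcases mul_eq_zero.1 h5.symm with h | h
    · exact absurd h (Int.natCast_ne_zero.2 hp.out.ne_zero)
    · linear_combination h
  rw [h6] at h4
  simp at h4

lemma exists_pow_sub_C_mem {n : ℕ} (P : MvPolynomial (Fin n × Fin 2) k) :
    ∃ c : k, P ^ p - C c ∈ quadIdeal p k n := by
  induction P using MvPolynomial.induction_on with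
  | C a => exact ⟨a ^ p, by rw [← map_pow, sub_self]; exact zero_mem _⟩
  | add a b ha hb =>
    obtain ⟨c, hc⟩ := ha
    obtain ⟨d, hd⟩ := hb
    refine ⟨c + d, ?_⟩
    rw [add_pow_char, map_add, add_sub_add_comm]
    exact add_mem hc hd
  | mul_X a v _ =>
    refine ⟨0, ?_⟩
    rw [map_zero, sub_zero, mul_pow]
    exact Ideal.mul_mem_left _ _ (Ideal.subset_span (Set.mem_insert_of_mem _ ⟨v, rfl⟩))

theorem not_isW2Liftable_quad {n : ℕ} (hn : 3 ≤ n) :
    ¬ IsW2Liftable p k (MvPolynomial (Fin n × Fin 2) k ⧸ quadIdeal p k n) := by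
  rintro ⟨A', _, ι, π, hlift⟩
  obtain ⟨hs, hker, htor, hcomm⟩ := isLift_iff.1 hlift
  obtain ⟨c, hc⟩ := exists_sum_pow (p := p) (Finset.univ) (fun i : Fin n => (X i : MvPolynomial (Fin n) ℤ))
  -- the obstruction is zero
  let x : Fin n × Fin 2 → A' := fun v => Function.surjInv hs (Ideal.Quotient.mk _ (X v))
  have hx : ∀ v, π (x v) = Ideal.Quotient.mk (quadIdeal p k n) (X v) := fun v => Function.surjInv_eq hs _
  have hk : ∀ a, π a = 0 → ∃ b, a = (p : A') * b := fun a ha => by
    have : a ∈ RingHom.ker π := ha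
    rwa [hker, Ideal.mem_span_singleton] at this
  let ev : MvPolynomial (Fin n) ℤ →+* A' := eval₂Hom (Int.castRingHom A') fun i => x (i, 0) * x (i, 1)
  have h1 := congrArg ev hc
  simp only [map_pow, map_sum, map_add, map_mul, map_natCast, ev, eval₂Hom_X'] at h1
  change _ = _ + _ * ev c at h1
  obtain ⟨a, ha⟩ := hk (∑ i, x (i, 0) * x (i, 1)) (by
    simp only [map_sum, map_mul, hx]
    rw [← Finset.sum_congr rfl (fun i _ => map_mul (Ideal.Quotient.mk (quadIdeal p k n)) _ _), ← map_sum,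
      Ideal.Quotient.eq_zero_iff_mem]
    exact Ideal.subset_span (Set.mem_insert _ _))
  have hxp : ∀ v, ∃ b, x v ^ p = (p : A') * b := fun v => hk _ (by
    rw [map_pow, hx, ← map_pow, Ideal.Quotient.eq_zero_iff_mem]
    exact Ideal.subset_span (Set.mem_insert_of_mem _ ⟨v, rfl⟩))
  choose b hb using hxp
  have hpp := mul_p_eq_zero (k := k) (p := p) ι
  have h2 : (p : A') * ev c = 0 := by
    have hl : (∑ i, x (i, 0) * x (i, 1)) ^ p = 0 := by
      rw [ha]
      exact pow_eq_zero_of_le hp.out.two_le (by rw [mul_pow, sq ((p : A')), hpp, zero_mul])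
    have hr : ∑ i, (x (i, 0) * x (i, 1)) ^ p = 0 := Finset.sum_eq_zero fun i _ => by
      rw [mul_pow, hb, hb, mul_mul_mul_comm, hpp, zero_mul]
    rw [hl, hr, zero_add] at h1
    exact h1.symm
  have h3 := htor _ h2
  have hev : π.comp ev = ((Ideal.Quotient.mk (quadIdeal p k n)).comp
      ((aeval fun i => (X (i, 0) * X (i, 1) : MvPolynomial (Fin n × Fin 2) k)).toRingHom)).comp
        (MvPolynomial.map (Int.castRingHom k)) :=
    MvPolynomial.ringHom_ext (fun r => by simp [ev]) (fun i => by simp [ev, hx])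
  rw [show π (ev c) = _ from RingHom.congr_fun hev c] at h3
  simp only [RingHom.comp_apply, Ideal.Quotient.eq_zero_iff_mem] at h3
  exact obstruction_notMem hn hc (0 : k) (by rw [map_zero, sub_zero]; exact h3)

theorem not_isFLiftable_quad {n : ℕ} (hn : 3 ≤ n) :
    ¬ IsFLiftable p k (MvPolynomial (Fin n × Fin 2) k ⧸ Ideal.span
      {(∑ i : Fin n, X (i, (0 : Fin 2)) * X (i, (1 : Fin 2)) : MvPolynomial (Fin n × Fin 2) k)}) := by
  rintro ⟨A', _, ι, π, Φ, hΦ⟩
  obtain ⟨hs, hker, htor, hcomm⟩ := isLift_iff.1 hΦ.toIsLift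
  let J : Ideal (MvPolynomial (Fin n × Fin 2) k) := Ideal.span
    {(∑ i : Fin n, X (i, (0 : Fin 2)) * X (i, (1 : Fin 2)) : MvPolynomial (Fin n × Fin 2) k)}
  obtain ⟨c, hc⟩ := exists_sum_pow (p := p) (Finset.univ) (fun i : Fin n => (X i : MvPolynomial (Fin n) ℤ))
  let x : Fin n × Fin 2 → A' := fun v => Function.surjInv hs (Ideal.Quotient.mk _ (X v))
  have hx : ∀ v, π (x v) = Ideal.Quotient.mk J (X v) := fun v => Function.surjInv_eq hs _
  have hk : ∀ a, π a = 0 → ∃ b, a = (p : A') * b := fun a ha => by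
    have : a ∈ RingHom.ker π := ha
    rwa [hker, Ideal.mem_span_singleton] at this
  obtain ⟨a, ha⟩ := hk (∑ i, x (i, 0) * x (i, 1)) (by
    simp only [map_sum, map_mul, hx]
    simp only [← map_mul, ← map_sum]
    rw [Ideal.Quotient.eq_zero_iff_mem]
    exact Ideal.mem_span_singleton_self _)
  choose y hy using fun b => hk (Φ b - b ^ p) (by rw [map_sub, hΦ.red, map_pow, sub_self])
  have hΦy : ∀ b, Φ b = b ^ p + (p : A') * y b := fun b => by rw [← hy]; ring
  have hpp := mul_p_eq_zero (k := k) (p := p) ι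
  let ev : MvPolynomial (Fin n) ℤ →+* A' := eval₂Hom (Int.castRingHom A') fun i => x (i, 0) * x (i, 1)
  have h1 := congrArg ev hc
  simp only [map_pow, map_sum, map_add, map_mul, map_natCast, ev, eval₂Hom_X'] at h1
  change _ = _ + _ * ev c at h1
  rw [ha, pow_eq_zero_of_le hp.out.two_le (by rw [mul_pow, sq ((p : A')), hpp, zero_mul])] at h1
  have hterm : ∀ i, Φ (x (i, 0) * x (i, 1)) = (x (i, 0) * x (i, 1)) ^ p +
      (p : A') * (x (i, 0) ^ p * y (x (i, 1)) + y (x (i, 0)) * x (i, 1) ^ p) := fun i => by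
    rw [map_mul, hΦy, hΦy, mul_pow]
    linear_combination (y (x (i, 0)) * y (x (i, 1))) * hpp
  have h2 := congrArg Φ ha
  rw [map_sum, Finset.sum_congr rfl fun i _ => hterm i, Finset.sum_add_distrib, ← Finset.mul_sum, map_mul,
    map_natCast, hΦy a] at h2
  have h3 := htor (ev c - (∑ i, (x (i, 0) ^ p * y (x (i, 1)) + y (x (i, 0)) * x (i, 1) ^ p)) + a ^ p) (by
    linear_combination -h1 - h2 - y a * hpp)
  have hev : π.comp ev = ((Ideal.Quotient.mk J).comp
      ((aeval fun i => (X (i, 0) * X (i, 1) : MvPolynomial (Fin n × Fin 2) k)).toRingHom)).comp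
        (MvPolynomial.map (Int.castRingHom k)) :=
    MvPolynomial.ringHom_ext (fun r => by simp [ev]) (fun i => by simp [ev, hx])
  obtain ⟨P, hP⟩ : ∃ P, Ideal.Quotient.mk J P = π a := Ideal.Quotient.mk_surjective _
  choose Y hY using fun v => (Ideal.Quotient.mk_surjective _ : ∃ Q, Ideal.Quotient.mk J Q = π (y (x v)))
  simp only [map_add, map_sub, map_sum, map_mul, map_pow, hx, ← hP, ← hY] at h3
  rw [show π (ev c) = _ from RingHom.congr_fun hev c] at h3
  simp only [RingHom.comp_apply, ← map_pow, ← map_mul, ← map_add, ← map_sum, ← map_sub,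
    Ideal.Quotient.eq_zero_iff_mem] at h3
  obtain ⟨r, hr⟩ := exists_pow_sub_C_mem (p := p) P
  have hJ : J ≤ quadIdeal p k n :=
    Ideal.span_le.2 (Set.singleton_subset_iff.2 (Ideal.subset_span (Set.mem_insert _ _)))
  have hsum : ∑ i, (X (i, 0) ^ p * Y (i, 1) + Y (i, 0) * X (i, 1) ^ p) ∈ quadIdeal p k n :=
    sum_mem fun i _ => add_mem (Ideal.mul_mem_right _ _ (Ideal.subset_span (Set.mem_insert_of_mem _ ⟨_, rfl⟩)))
      (Ideal.mul_mem_left _ _ (Ideal.subset_span (Set.mem_insert_of_mem _ ⟨_, rfl⟩)))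
  refine obstruction_notMem hn hc (-r) ?_
  have h := sub_mem (add_mem (hJ h3) hsum) hr
  rw [map_neg]
  convert h using 1
  simp only [AlgHom.toRingHom_eq_coe, RingHom.coe_coe]
  ring

end Groth.Agent.W2Lift
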