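import Groth.Agent.Lib.W2Lift.Torsor
import Groth.Agent.Lib.Hens.EtaleLift
import Mathlib.RingTheory.Smooth.Quotient
import Mathlib.RingTheory.RingHom.LocallyStandardSmooth

/-!
Smooth algebras lift over `W₂` together with Frobenius.
-/

universe u v

namespace Groth.Agent.W2Lift

open FrobAlg

set_option linter.unusedSectionVars false
set_option linter.style.haveILetI false

variable {p : ℕ} [hp : Fact p.Prime] {k : Type u} [Field k] [CharP k p] [PerfectRing k p]

lemma exists_ringHom_lift {R : Type*} {E : Type*} {E' : Type*} {C : Type*} [CommRing R] [CommRing E]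
    [CommRing E'] [CommRing C] (f : R →+* E) (hf : f.FormallySmooth) (f' : R →+* E') (π : E' →+* C)
    (hπ : Function.Surjective π) (hn : IsNilpotent (RingHom.ker π)) (g : E →+* C) (hg : g.comp f = π.comp f') :
    ∃ Φ : E →+* E', Φ.comp f = f' ∧ π.comp Φ = g := by
  algebraize [f, f', π.comp f']
  haveI : Algebra.FormallySmooth R E := hf
  let g' : E →ₐ[R] C := { g with commutes' := RingHom.congr_fun hg }
  let π' : E' →ₐ[R] C := { π with commutes' := fun _ => rfl }
  exact ⟨(Algebra.FormallySmooth.liftOfSurjective g' π' hπ hn).toRingHom,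
    (Algebra.FormallySmooth.liftOfSurjective g' π' hπ hn).comp_algebraMap,
    RingHom.ext fun b => Algebra.FormallySmooth.liftOfSurjective_apply g' π' hπ hn b⟩

section

variable {A B : Type v} [CommRing A] [Algebra k A] [CommRing B] {ι : W2 p k →+* B} {π : B →+* A}

lemma ker_sq (hB : IsLift p k A B ι π) : IsNilpotent (RingHom.ker π) := by
  refine ⟨2, ?_⟩
  rw [(isLift_iff.1 hB).2.1, Ideal.span_singleton_pow, sq, mul_p_eq_zero ι, Ideal.span_singleton_zero,
    Ideal.zero_eq_bot]

/-- A lifting which is formally smooth over `W₂` carries a lift of Frobenius. -/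
theorem exists_frobLift_of_formallySmooth (hB : IsLift p k A B ι π) [CharP A p]
    (hfs : ι.FormallySmooth) : ∃ Φ : B →+* B, IsFrobLift p k A B ι π Φ := by
  obtain ⟨Φ, h1, h2⟩ := exists_ringHom_lift ι hfs (ι.comp (sigma p k)) π hB.surj (ker_sq hB)
    ((frobenius A p).comp π) (RingHom.ext fun w => by
      simp only [RingHom.comp_apply, frobenius_def]
      rw [← RingHom.comp_apply π, ← RingHom.comp_apply π, hB.comm, RingHom.comp_apply, RingHom.comp_apply,
        ← map_pow, res_apply, res_apply, WittGrp.coeff_frob])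
  exact ⟨Φ, { toIsLift := hB, semi := h1, red := fun b => RingHom.congr_fun h2 b }⟩

theorem formallySmooth_of_isLift (hB : IsLift p k A B ι π) [Algebra.FormallySmooth k A] :
    ι.FormallySmooth := by
  refine RingHom.FormallySmooth.of_flat_of_ker_eq_map_of_square_zero ι hB.flat (res p k) π (algebraMap k A)
    (fun c => ⟨WittVector.truncate 2 (WittVector.mk p fun _ => c), res_truncate p k _⟩) hB.surj hB.comm ?_
    hB.ker_eq ?_
  · rw [ker_res, Ideal.span_singleton_pow, sq, p_mul_p, Ideal.span_singleton_zero]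
  · exact RingHom.formallySmooth_algebraMap.2 inferInstance

end

section Etale

variable {A C : Type v} [CommRing A] [Algebra k A] [CommRing C] [Algebra k C] [Algebra A C]
  [IsScalarTower k A C] [Algebra.Etale A C]

/-- An étale algebra over a lifting lifts. -/
theorem exists_lift_of_etale {A' : Type v} [CommRing A'] {ιA : W2 p k →+* A'} {πA : A' →+* A}
    (hA : IsLift p k A A' ιA πA) :
    ∃ (E : Type v) (_ : CommRing E) (f : A' →+* E) (π : E →+* C),
      IsLift p k C E (f.comp ιA) π ∧ π.comp f = (algebraMap A C).comp πA ∧ f.Etale := by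
  let I : Ideal A' := RingHom.ker πA
  let e : A' ⧸ I ≃+* A := RingHom.quotientKerEquivOfSurjective hA.surj
  letI : Algebra (A' ⧸ I) A := e.toRingHom.toAlgebra
  letI : Algebra (A' ⧸ I) C := ((algebraMap A C).comp e.toRingHom).toAlgebra
  haveI : IsScalarTower (A' ⧸ I) A C := IsScalarTower.of_algebraMap_eq' rfl
  haveI : Algebra.Etale (A' ⧸ I) A := Algebra.Etale.of_equiv
    (AlgEquiv.ofRingEquiv (f := e) (fun _ => rfl) : (A' ⧸ I) ≃ₐ[A' ⧸ I] A)
  haveI : Algebra.Etale (A' ⧸ I) C := Algebra.Etale.comp (A' ⧸ I) A C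
  letI : Algebra A' C := ((algebraMap A C).comp πA).toAlgebra
  haveI : IsScalarTower A' (A' ⧸ I) C := IsScalarTower.of_algebraMap_eq' (by
    show (algebraMap A C).comp πA = ((algebraMap A C).comp e.toRingHom).comp (Ideal.Quotient.mk I)
    rw [RingHom.comp_assoc]; rfl)
  obtain ⟨E, _, _, _, φ, hφ, hker⟩ := Groth.Agent.Hens.exists_etale_lift A' I C
  refine ⟨E, inferInstance, algebraMap A' E, φ.toRingHom, ?_, φ.comp_algebraMap,
    RingHom.etale_algebraMap.2 inferInstance⟩
  refine ⟨RingHom.Flat.comp hA.flat (RingHom.flat_algebraMap_iff.2 inferInstance), hφ, ?_, ?_⟩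
  · rw [← Ideal.map_map, ← hA.ker_eq]
    exact hker
  · rw [← RingHom.comp_assoc, show φ.toRingHom.comp (algebraMap A' E) = (algebraMap A C).comp πA from φ.comp_algebraMap,
      RingHom.comp_assoc, hA.comm, ← RingHom.comp_assoc, ← IsScalarTower.algebraMap_eq]

theorem isFLiftable_of_etale (hA : IsFLiftable p k A) : IsFLiftable p k C := by
  obtain ⟨A', _, ιA, πA, ΦA, hΦA⟩ := hA
  obtain ⟨E, _, f, π, hE, hcomm, het⟩ := exists_lift_of_etale (C := C) hΦA.toIsLift
  have hpC : (p : C) = 0 := by rw [← map_natCast (algebraMap k C), CharP.cast_eq_zero, map_zero]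
  have hpow : ∀ x y : C, (x + y) ^ p = x ^ p + y ^ p := fun x y => by
    rw [add_pow_prime_eq hp.out, hpC, zero_mul, zero_mul, zero_mul, add_zero]
  let F : C →+* C :=
    { toFun := fun x => x ^ p, map_one' := one_pow p, map_mul' := fun x y => mul_pow x y p,
      map_zero' := zero_pow hp.out.ne_zero, map_add' := hpow }
  obtain ⟨Φ, h1, h2⟩ := exists_ringHom_lift f (by algebraize [f]; exact RingHom.formallySmooth_algebraMap.2 inferInstance) (f.comp ΦA) π hE.surj (ker_sq hE)
    (F.comp π) (RingHom.ext fun a => by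
      show π (f a) ^ p = π (f (ΦA a))
      rw [← RingHom.comp_apply, hcomm, ← RingHom.comp_apply, hcomm, RingHom.comp_apply, RingHom.comp_apply,
        hΦA.red, map_pow])
  refine ⟨E, inferInstance, f.comp ιA, π, Φ, { toIsLift := hE, semi := ?_, red := fun b => RingHom.congr_fun h2 b }⟩
  rw [← RingHom.comp_assoc, h1, RingHom.comp_assoc, hΦA.semi, ← RingHom.comp_assoc]

end Etale

theorem isW2Liftable_pi {ι : Type u} [Finite ι] {B : ι → Type u} [∀ i, CommRing (B i)]
    [∀ i, Algebra k (B i)] (h : ∀ i, IsW2Liftable p k (B i)) : IsW2Liftable p k (∀ i, B i) := by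
  classical
  choose B' c ιB πB hB using h
  letI := c
  refine ⟨∀ i, B' i, inferInstance, RingHom.pi ιB,
    RingHom.pi fun i => (πB i).comp (Pi.evalRingHom B' i), isLift_iff.2 ⟨?_, ?_, ?_, ?_⟩⟩
  · intro a
    choose b hb using fun i => (hB i).surj (a i)
    exact ⟨b, funext hb⟩
  · refine le_antisymm (fun x hx => ?_) ?_
    · have : ∀ i, ∃ y, x i = (p : B' i) * y := fun i => by
        have h0 : x i ∈ RingHom.ker (πB i) := congrFun hx i
        rwa [(isLift_iff.1 (hB i)).2.1, Ideal.mem_span_singleton] at h0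
      choose y hy using this
      exact Ideal.mem_span_singleton.2 ⟨y, funext fun i => by simpa using hy i⟩
    · rw [Ideal.span_le, Set.singleton_subset_iff]
      refine funext fun i => ?_
      show πB i ((p : ∀ i, B' i) i) = 0
      rw [Pi.natCast_apply]
      show _ ∈ RingHom.ker (πB i)
      rw [(isLift_iff.1 (hB i)).2.1]
      exact Ideal.mem_span_singleton_self _
  · intro b hb
    exact funext fun i => (isLift_iff.1 (hB i)).2.2.1 (b i) (by simpa using congrFun hb i)
  · exact RingHom.ext fun w => funext fun i => RingHom.congr_fun (hB i).comm w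

theorem isFLiftable_mvPolynomial (n : Type) :
    IsFLiftable p k (MvPolynomial n k) := by
  refine ⟨MvPolynomial n (W2 p k), inferInstance, MvPolynomial.C, MvPolynomial.map (res p k),
    polyFrob p k n, { toIsLift := ?_, semi := ?_, red := ?_ }⟩
  · refine isLift_iff.2 ⟨MvPolynomial.map_surjective _ (fun c =>
      ⟨WittVector.truncate 2 (WittVector.mk p fun _ => c), res_truncate p k _⟩), ?_, ?_, ?_⟩
    · rw [MvPolynomial.ker_map, ker_res, Ideal.map_span, Set.image_singleton, map_natCast]
    · intro b hb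
      rw [← RingHom.mem_ker, MvPolynomial.ker_map, MvPolynomial.mem_map_C_iff]
      intro m
      have h := congrArg (MvPolynomial.coeff m) hb
      rw [← map_natCast (MvPolynomial.C : W2 p k →+* MvPolynomial n (W2 p k)) p, MvPolynomial.coeff_C_mul,
        MvPolynomial.coeff_zero, mul_comm] at h
      exact res_eq_zero_of_mul_p h
    · exact RingHom.ext fun w => MvPolynomial.map_C _ w
  · exact MvPolynomial.eval₂Hom_comp_C _ _
  · intro b
    have : (MvPolynomial.map (res p k)).comp (polyFrob p k n) =
        (frobenius (MvPolynomial n k) p).comp (MvPolynomial.map (res p k)) := by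
      refine MvPolynomial.ringHom_ext (fun w => ?_) fun i => ?_
      · simp [polyFrob, WittGrp.coeff_frob, frobenius_def]
      · simp [polyFrob, frobenius_def]
    exact RingHom.congr_fun this b

theorem isFLiftable_of_smooth (A : Type u) [CommRing A] [Algebra k A] [Algebra.Smooth k A] :
    IsFLiftable p k A := by
  rcases subsingleton_or_nontrivial A with _ | _
  · refine ⟨A, inferInstance, (algebraMap k A).comp (res p k), RingHom.id A, RingHom.id A,
      { toIsLift := isLift_iff.2 ⟨Function.surjective_id, Subsingleton.elim _ _,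
          fun b _ => Subsingleton.elim _ _, rfl⟩,
        semi := RingHom.ext fun _ => Subsingleton.elim _ _, red := fun _ => Subsingleton.elim _ _ }⟩
  obtain ⟨s, hs, hstd⟩ := RingHom.Smooth.locally_isStandardSmooth
    (f := algebraMap k A) (RingHom.smooth_algebraMap.2 inferInstance)
  obtain ⟨s', hs's, hs'⟩ := (Ideal.span_eq_top_iff_finite s).mp hs
  classical
  haveI : CharP A p := charP_of_injective_algebraMap (algebraMap k A).injective p
  let B : s' → Type u := fun t => Localization.Away (t : A)
  have hW : ∀ t : s', IsW2Liftable p k (B t) := by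
    intro t
    obtain ⟨n, g, hg, het⟩ := (hstd t (hs's t.2)).exists_etale_mvPolynomial
    letI : Algebra (MvPolynomial (Fin n) k) (B t) := g.toAlgebra
    haveI : IsScalarTower k (MvPolynomial (Fin n) k) (B t) := IsScalarTower.of_algebraMap_eq' (by
      show algebraMap k (B t) = g.comp MvPolynomial.C
      rw [hg, ← IsScalarTower.algebraMap_eq k A (Localization.Away (t : A))])
    haveI : Algebra.Etale (MvPolynomial (Fin n) k) (B t) := RingHom.etale_algebraMap.1 het
    obtain ⟨E, _, ι, π, Φ, h⟩ := isFLiftable_of_etale (C := B t) (isFLiftable_mvPolynomial (p := p) (k := k) (Fin n))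
    exact ⟨E, inferInstance, ι, π, h.toIsLift⟩
  haveI : Module.Flat A (∀ t, B t) := by
    haveI : ∀ t, Module.Flat A (B t) := fun t => IsLocalization.flat _ (Submonoid.powers (t : A))
    exact Module.Flat.of_linearEquiv (DFinsupp.linearEquivFunOnFintype (R := A) (M := B)).symm
  haveI : Module.FaithfullyFlat A (∀ t, B t) := Module.FaithfullyFlat.of_comap_surjective fun P => by
    obtain ⟨t, hts, ht⟩ : ∃ t ∈ s', t ∉ P.asIdeal := by
      by_contra h
      push Not at h
      exact P.isPrime.ne_top (top_le_iff.1 (hs' ▸ Ideal.span_le.2 h))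
    obtain ⟨q, hq⟩ : P ∈ Set.range (PrimeSpectrum.comap (algebraMap A (B ⟨t, hts⟩))) := by
      rw [PrimeSpectrum.localization_away_comap_range (B ⟨t, hts⟩) t]
      exact ht
    refine ⟨PrimeSpectrum.comap (Pi.evalRingHom B ⟨t, hts⟩) q, ?_⟩
    rw [← hq]; rfl
  obtain ⟨A', _, ιA, πA, hA'⟩ :=
    isW2Liftable_of_faithfullyFlat (A := A) (B := ∀ t, B t) (isW2Liftable_pi hW)
  obtain ⟨Φ, hΦ⟩ := exists_frobLift_of_formallySmooth hA' (formallySmooth_of_isLift hA')
  exact ⟨A', inferInstance, ιA, πA, Φ, hΦ⟩

end Groth.Agent.W2Lift
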