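import Groth.Agent.Lib.W2Lift.Witt2

/-!
Twisted Witt vectors of a Frobenius split algebra.
-/

universe u

namespace Groth.Agent.W2Lift

open FrobAlg

set_option linter.unusedSectionVars false

variable {p : ℕ} [hp : Fact p.Prime] {k : Type u} [Field k] [CharP k p] [PerfectRing k p]
  {A : Type u} [CommRing A] [Algebra k A] {φ : A →+ A}

lemma mem_splitIdeal (hpA : (p : A) = 0) (hφ : ∀ a b : A, φ (a ^ p * b) = a * φ b) {x : W2 p A} :
    x ∈ splitIdeal p A φ ↔ res p A x = 0 ∧ φ (x.coeff 1) = 0 := by
  refine ⟨fun hx => ?_, fun hx => Ideal.subset_span hx⟩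
  induction hx using Submodule.span_induction with
  | mem y hy => exact hy
  | zero => exact ⟨map_zero _, by rw [TruncatedWittVector.coeff_zero, map_zero]⟩
  | add a b _ _ ha hb =>
    refine ⟨by rw [map_add, ha.1, hb.1, add_zero], ?_⟩
    have := ha.1; rw [res_apply] at this
    rw [coeff_one_add, this, cross_zero_left, sub_zero, map_add, ha.2, hb.2, add_zero]
  | smul a b _ hb =>
    refine ⟨by rw [smul_eq_mul, map_mul, hb.1, mul_zero], ?_⟩
    have := hb.1; rw [res_apply] at this
    rw [smul_eq_mul, coeff_one_mul, this, zero_pow hp.out.ne_zero, mul_zero, hpA, zero_mul, add_zero,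
      add_zero, hφ, hb.2, mul_zero]

theorem isLift_split (hφ : ∀ a b : A, φ (a ^ p * b) = a * φ b) (hφ1 : φ 1 = 1) :
    IsLift p k A (W2 p A ⧸ splitIdeal p A φ)
      ((Ideal.Quotient.mk (splitIdeal p A φ)).comp (WittGrp.truncMap p 2 (algebraMap k A)))
      (splitRes p A φ) := by
  have hpA : (p : A) = 0 := by rw [← map_natCast (algebraMap k A), CharP.cast_eq_zero, map_zero]
  have hφp : ∀ a, φ (a ^ p) = a := fun a => by
    have := hφ a 1
    rwa [mul_one, hφ1, mul_one] at this
  have hp0 : ((p : W2 p A)).coeff 0 = 0 := by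
    rw [← res_apply, map_natCast, hpA]
  have hp1 : ((p : W2 p A)).coeff 1 = 1 := by
    have h := congrArg (fun z : W2 p A => z.coeff 1) (map_natCast (WittGrp.truncMap p 2 (algebraMap k A)) p)
    simp only [WittGrp.coeff_truncMap] at h
    have h1 := (coeff_mul_p (1 : W2 p k)).2
    rw [one_mul, coeff_zero_of_one, one_pow] at h1
    rw [← h, h1, map_one]
  refine isLift_iff.2 ⟨?_, ?_, ?_, ?_⟩
  · intro a
    exact ⟨Ideal.Quotient.mk _ (TruncatedWittVector.mk p ![a, 0]), by simp [splitRes]⟩
  · refine le_antisymm (fun z hz => ?_) ?_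
    · obtain ⟨x, rfl⟩ := Ideal.Quotient.mk_surjective z
      have hx : x.coeff 0 = 0 := by
        rw [← res_apply]
        exact hz
      let y : W2 p A := TruncatedWittVector.mk p ![φ (x.coeff 1), 0]
      have hy : y.coeff 0 = φ (x.coeff 1) ∧ y.coeff 1 = 0 := by simp [y]
      have hmem : x - (p : W2 p A) * y ∈ splitIdeal p A φ := by
        have h0 : res p A (x - (p : W2 p A) * y) = 0 := by
          rw [map_sub, map_mul, map_natCast, hpA, zero_mul, sub_zero, res_apply, hx]
        refine (mem_splitIdeal hpA hφ).2 ⟨h0, ?_⟩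
        have h1 := coeff_one_add (x - (p : W2 p A) * y) ((p : W2 p A) * y)
        rw [res_apply] at h0
        rw [sub_add_cancel, h0, cross_zero_left, sub_zero, coeff_one_mul, hp0, hp1, hy.1, hy.2,
          mul_zero, zero_add, one_mul, mul_zero, mul_zero, add_zero] at h1
        have h2 := congrArg φ h1
        rw [map_add, hφp] at h2
        exact add_eq_right.1 h2.symm
      rw [← Ideal.Quotient.eq] at hmem
      rw [hmem, map_mul, map_natCast]
      exact Ideal.mul_mem_right _ _ (Ideal.mem_span_singleton_self _)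
    · rw [Ideal.span_le, Set.singleton_subset_iff, SetLike.mem_coe, RingHom.mem_ker, map_natCast, hpA]
  · intro z hz
    obtain ⟨x, rfl⟩ := Ideal.Quotient.mk_surjective z
    rw [← map_natCast (Ideal.Quotient.mk (splitIdeal p A φ)) p, ← map_mul, Ideal.Quotient.eq_zero_iff_mem,
      mem_splitIdeal hpA hφ] at hz
    have h := hz.2
    rw [coeff_one_mul, hp0, hp1, zero_pow hp.out.ne_zero, zero_mul, zero_add, one_mul, hpA, zero_mul,
      add_zero, hφp] at h
    show res p A x = 0
    rwa [res_apply]
  · exact RingHom.ext fun w => by simp [splitRes]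

end Groth.Agent.W2Lift
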