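import Groth.Agent.Lib.W2Lift.Basic
import Mathlib.Algebra.MvPolynomial.Eval
import Mathlib.RingTheory.EssentialFiniteness
import Mathlib.RingTheory.Localization.Ideal
import Mathlib.RingTheory.Polynomial.Basic
import Mathlib.RingTheory.Flat.FaithfullyFlat.Algebra
import Mathlib.RingTheory.Artinian.Ring
import Mathlib.RingTheory.Localization.BaseChange

/-!
Constructing `W₂`-liftings from a linear form on the kernel of a presentation, and descent of liftability.
-/

universe u v w

open TensorProduct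

namespace Groth.Agent.W2Lift

open FrobAlg

set_option linter.unusedSectionVars false
set_option linter.style.haveILetI false

variable {p : ℕ} [hp : Fact p.Prime] {k : Type u} [Field k] [CharP k p] [PerfectRing k p]
  {A : Type v} [CommRing A] [Algebra k A]

section Torsor

variable {P : Type v} [CommRing P] (ι : W2 p k →+* P) (φ : P →+* A)

lemma map_p_eq_zero (hφι : φ.comp ι = (algebraMap k A).comp (res p k)) : φ (p : P) = 0 := by
  rw [← map_natCast ι p, ← RingHom.comp_apply, hφι, RingHom.comp_apply, res_p, map_zero]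

theorem isW2Liftable_of_form (hφ : Function.Surjective φ)
    (hφι : φ.comp ι = (algebraMap k A).comp (res p k)) (θ : P → A)
    (hadd : ∀ x y, φ x = 0 → φ y = 0 → θ (x + y) = θ x + θ y)
    (hmul : ∀ y x, φ x = 0 → θ (y * x) = φ y * θ x) (hp1 : θ (p : P) = 1) :
    IsW2Liftable p k A := by
  have hp0 := map_p_eq_zero ι φ hφι
  have hθp : ∀ y, θ ((p : P) * y) = φ y := fun y => by rw [mul_comm, hmul _ _ hp0, hp1, mul_one]
  have h0 : θ 0 = 0 := by simpa using hmul 0 0 (map_zero φ)
  let I : Ideal P :=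
    { carrier := {x | φ x = 0 ∧ θ x = 0}
      add_mem' := fun {a b} ha hb => ⟨by rw [map_add, ha.1, hb.1, add_zero],
        by rw [hadd _ _ ha.1 hb.1, ha.2, hb.2, add_zero]⟩
      zero_mem' := ⟨map_zero φ, h0⟩
      smul_mem' := fun c x hx => ⟨by rw [smul_eq_mul, map_mul, hx.1, mul_zero],
        by rw [smul_eq_mul, hmul _ _ hx.1, hx.2, mul_zero]⟩ }
  let π : P ⧸ I →+* A := Ideal.Quotient.lift I φ fun x hx => hx.1
  refine ⟨P ⧸ I, inferInstance, (Ideal.Quotient.mk I).comp ι, π, isLift_iff.2 ⟨?_, ?_, ?_, ?_⟩⟩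
  · intro a
    obtain ⟨x, rfl⟩ := hφ a
    exact ⟨Ideal.Quotient.mk I x, rfl⟩
  · refine le_antisymm (fun z hz => ?_) ?_
    · obtain ⟨x, rfl⟩ := Ideal.Quotient.mk_surjective z
      have hx : φ x = 0 := hz
      obtain ⟨y, hy⟩ := hφ (θ x)
      have : x - (p : P) * y ∈ I := by
        refine ⟨by rw [map_sub, map_mul, hp0, hx, zero_mul, sub_zero], ?_⟩
        rw [show x - (p : P) * y = x + (p : P) * (-y) by ring,
          hadd _ _ hx (by rw [map_mul, hp0, zero_mul]), hθp, map_neg, hy, add_neg_cancel]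
      rw [← Ideal.Quotient.eq] at this
      rw [this, map_mul, map_natCast]
      exact Ideal.mul_mem_right _ _ (Ideal.mem_span_singleton_self _)
    · rw [Ideal.span_le, Set.singleton_subset_iff, SetLike.mem_coe, RingHom.mem_ker,
        ← map_natCast (Ideal.Quotient.mk I) p]
      exact hp0
  · intro z hz
    obtain ⟨x, rfl⟩ := Ideal.Quotient.mk_surjective z
    rw [← map_natCast (Ideal.Quotient.mk I) p, ← map_mul, Ideal.Quotient.eq_zero_iff_mem] at hz
    exact (hθp x).symm.trans hz.2
  · rw [← hφι, ← RingHom.comp_assoc]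
    rfl

end Torsor

/-- The linear form on the kernel of a presentation given by a lifting of an algebra over `A`. -/
lemma exists_form_of_lift {P : Type w} [CommRing P] (φ : P →+* A)
    {B : Type v} [CommRing B] [Algebra k B] [Algebra A B]
    {B' : Type v} [CommRing B'] {ιB : W2 p k →+* B'} {πB : B' →+* B} (hB : IsLift p k B B' ιB πB)
    (ψ : P →+* B') (hψ : πB.comp ψ = (algebraMap A B).comp φ) :
    ∃ θ : P → B, (∀ x y, φ x = 0 → φ y = 0 → θ (x + y) = θ x + θ y) ∧
      (∀ y x, φ x = 0 → θ (y * x) = algebraMap A B (φ y) * θ x) ∧ θ (p : P) = 1 := by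
  have h0 : ∀ x, φ x = 0 → πB (ψ x) = 0 := fun x hx => by
    rw [← RingHom.comp_apply, hψ, RingHom.comp_apply, hx, map_zero]
  refine ⟨fun x => divP hB (ψ x), fun x y hx hy => ?_, fun y x hx => ?_, ?_⟩
  · show divP hB _ = _
    rw [map_add, divP_add hB (h0 x hx) (h0 y hy)]
  · show divP hB _ = _
    rw [map_mul, divP_mul hB _ (h0 x hx), ← RingHom.comp_apply, hψ, RingHom.comp_apply]
  · show divP hB _ = _
    rw [map_natCast, divP_eq hB (y := 1) (mul_one _).symm, map_one]

theorem isW2Liftable_of_retraction {A B : Type u} [CommRing A] [CommRing B] [Algebra k A]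
    [Algebra k B] [Algebra A B] [IsScalarTower k A B]
    (r : B →ₗ[A] A) (hr : ∀ a : A, r (algebraMap A B a) = a)
    (hB : IsW2Liftable p k B) : IsW2Liftable p k A := by
  obtain ⟨B', _, ιB, πB, hB⟩ := hB
  let φ : MvPolynomial A (W2 p k) →+* A := MvPolynomial.eval₂Hom ((algebraMap k A).comp (res p k)) id
  let ψ : MvPolynomial A (W2 p k) →+* B' :=
    MvPolynomial.eval₂Hom ιB fun a => Function.surjInv hB.surj (algebraMap A B a)
  have hψ : πB.comp ψ = (algebraMap A B).comp φ := by
    refine MvPolynomial.ringHom_ext (fun w => ?_) fun a => ?_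
    · simp only [RingHom.comp_apply, ψ, φ, MvPolynomial.eval₂Hom_C]
      have := RingHom.congr_fun hB.comm w
      rw [RingHom.comp_apply, RingHom.comp_apply] at this
      rw [this, IsScalarTower.algebraMap_apply k A B]
    · simp only [RingHom.comp_apply, ψ, φ, MvPolynomial.eval₂Hom_X', id]
      exact Function.surjInv_eq hB.surj _
  obtain ⟨θ, ha, hm, h1⟩ := exists_form_of_lift φ hB ψ hψ
  refine isW2Liftable_of_form MvPolynomial.C φ (fun a => ⟨MvPolynomial.X a, MvPolynomial.eval₂Hom_X' _ _ a⟩)
    (MvPolynomial.eval₂Hom_comp_C _ _) (r ∘ θ) (fun x y hx hy => ?_) (fun y x hx => ?_) ?_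
  · show r _ = _
    rw [ha x y hx hy, map_add]; rfl
  · show r _ = _
    rw [hm y x hx, ← Algebra.smul_def, map_smul, smul_eq_mul]; rfl
  · show r _ = _
    rw [h1, ← map_one (algebraMap A B), hr]

section Descent

/-- A linear system over `A` with a solution in a faithfully flat algebra has a solution in `A`. -/
lemma exists_solution_of_faithfullyFlat {B : Type w} [CommRing B] [Algebra A B] [Module.FaithfullyFlat A B]
    {m : ℕ} {M : Type v} [AddCommGroup M] [Module A M] (g : (Fin m → A) →ₗ[A] M) (y : M) (v : Fin m → B)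
    (h : ∑ j, v j ⊗ₜ[A] g (Pi.single j 1) = (1 : B) ⊗ₜ[A] y) : ∃ x, g x = y := by
  have h2 : (1 : B) ⊗ₜ[A] Submodule.Quotient.mk (p := LinearMap.range g) y = 0 := by
    have := congrArg (LinearMap.lTensor B (Submodule.mkQ (LinearMap.range g))) h
    simp only [map_sum, LinearMap.lTensor_tmul, Submodule.mkQ_apply] at this
    rw [← this, Finset.sum_eq_zero]
    intro j _
    rw [(Submodule.Quotient.mk_eq_zero _).2 (LinearMap.mem_range_self _ _), TensorProduct.tmul_zero]
  have h3 := Module.FaithfullyFlat.tensorProduct_mk_injective (A := A) (B := B) _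
    (a₁ := Submodule.Quotient.mk (p := LinearMap.range g) y) (a₂ := 0)
    (by rw [map_zero]; exact h2)
  exact (Submodule.Quotient.mk_eq_zero _).1 h3

instance : IsNoetherianRing (W2 p k) := by
  haveI : Finite (Ideal (W2 p k)) := by
    classical
    let t : Finset (Ideal (W2 p k)) := {⊥, Ideal.span {(p : W2 p k)}, ⊤}
    refine Finite.of_injective (β := t) (fun I => ⟨I, ?_⟩) fun I J h => congrArg Subtype.val h
    simp only [t, Finset.mem_insert, Finset.mem_singleton]
    rcases ideal_W2 I with h | h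
    · exact .inr (.inr h)
    by_cases hb : I = ⊥
    · exact .inl hb
    refine .inr (.inl (le_antisymm h ?_))
    obtain ⟨x, hx, hx0⟩ := Submodule.exists_mem_ne_zero_of_ne_bot hb
    obtain ⟨y, rfl⟩ := Ideal.mem_span_singleton'.1 (h hx)
    have hy : IsUnit y := isUnit_of_res (isUnit_iff_ne_zero.2 fun h0 => hx0 (by
      obtain ⟨z, rfl⟩ := exists_eq_mul_p h0
      rw [mul_assoc, p_mul_p, mul_zero]))
    rw [Ideal.span_le, Set.singleton_subset_iff]
    rwa [Ideal.unit_mul_mem_iff_mem I hy] at hx
  exact isNoetherian_iff.2 (Finite.wellFounded_of_trans_of_irrefl _)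

variable (p k) in
lemma exists_presentation (A : Type u) [CommRing A] [Algebra k A] [Algebra.EssFiniteType k A] :
    ∃ (P : Type u) (_ : CommRing P) (_ : IsNoetherianRing P) (ι : W2 p k →+* P) (φ : P →+* A),
      Function.Surjective φ ∧ φ.comp ι = (algebraMap k A).comp (res p k) ∧
      ∀ (B' : Type u) [CommRing B'] (B : Type u) [CommRing B] [Algebra A B] (ιB : W2 p k →+* B')
        (πB : B' →+* B), Function.Surjective πB → (∀ x, IsUnit (πB x) → IsUnit x) →
        πB.comp ιB = (algebraMap A B).comp ((algebraMap k A).comp (res p k)) →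
        ∃ ψ : P →+* B', πB.comp ψ = (algebraMap A B).comp φ := by
  obtain ⟨s, hs⟩ := (Algebra.essFiniteType_iff (R := k) (S := A)).1 inferInstance
  let φ0 : MvPolynomial s (W2 p k) →+* A :=
    MvPolynomial.eval₂Hom ((algebraMap k A).comp (res p k)) Subtype.val
  have hrange : ∀ a ∈ Algebra.adjoin k (s : Set A), ∃ x, φ0 x = a := by
    intro a ha
    induction ha using Algebra.adjoin_induction with
    | mem x hx => exact ⟨MvPolynomial.X ⟨x, hx⟩, MvPolynomial.eval₂Hom_X' _ _ _⟩
    | algebraMap c =>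
      refine ⟨MvPolynomial.C (WittVector.truncate 2 (WittVector.mk p fun _ => c)), ?_⟩
      rw [show φ0 (MvPolynomial.C _) = _ from MvPolynomial.eval₂Hom_C _ _ _, RingHom.comp_apply, res_truncate]
      rfl
    | add x y _ _ hx hy =>
      obtain ⟨a, rfl⟩ := hx; obtain ⟨b, rfl⟩ := hy; exact ⟨a + b, map_add _ _ _⟩
    | mul x y _ _ hx hy =>
      obtain ⟨a, rfl⟩ := hx; obtain ⟨b, rfl⟩ := hy; exact ⟨a * b, map_mul _ _ _⟩
  let S : Submonoid (MvPolynomial s (W2 p k)) := (IsUnit.submonoid A).comap φ0
  let φ : Localization S →+* A := IsLocalization.lift (M := S) (S := Localization S) (g := φ0) fun x => (Submonoid.mem_comap.1 x.2 : _)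
  refine ⟨Localization S, inferInstance, IsLocalization.isNoetherianRing S _ inferInstance,
    (algebraMap (MvPolynomial s (W2 p k)) (Localization S)).comp MvPolynomial.C, φ, fun a => ?_, ?_, ?_⟩
  · obtain ⟨t, ht, htu, hta⟩ := hs a
    obtain ⟨x, hx⟩ := hrange t ht
    obtain ⟨y, hy⟩ := hrange _ hta
    have hxS : x ∈ S := by
      show IsUnit (φ0 x)
      rw [hx]; exact htu
    refine ⟨IsLocalization.mk' _ y (⟨x, hxS⟩ : S), ?_⟩
    show IsLocalization.lift _ _ = a
    refine (IsLocalization.lift_mk'_spec _ _ _ _).2 ?_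
    show φ0 y = φ0 x * a
    rw [hy, hx, mul_comm]
  · rw [← RingHom.comp_assoc, show φ.comp (algebraMap _ _) = φ0 from IsLocalization.lift_comp _]
    exact MvPolynomial.eval₂Hom_comp_C _ _
  · intro B' _ B _ _ ιB πB hs' hu hc
    let ψ0 : MvPolynomial s (W2 p k) →+* B' :=
      MvPolynomial.eval₂Hom ιB fun a => Function.surjInv hs' (algebraMap A B a)
    have h0 : πB.comp ψ0 = (algebraMap A B).comp φ0 := by
      refine MvPolynomial.ringHom_ext (fun w => ?_) fun a => ?_
      · simp only [RingHom.comp_apply, ψ0, φ0, MvPolynomial.eval₂Hom_C]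
        exact RingHom.congr_fun hc w
      · simp only [RingHom.comp_apply, ψ0, φ0, MvPolynomial.eval₂Hom_X']
        exact Function.surjInv_eq hs' _
    refine ⟨IsLocalization.lift (M := S) (S := Localization S) (g := ψ0) fun x => hu _ ?_, IsLocalization.ringHom_ext S ?_⟩
    · rw [← RingHom.comp_apply, h0]
      exact (Submonoid.mem_comap.1 x.2 : IsUnit (φ0 x.1)).map (algebraMap A B)
    · rw [RingHom.comp_assoc, IsLocalization.lift_comp, RingHom.comp_assoc,
        show φ.comp (algebraMap _ _) = φ0 from IsLocalization.lift_comp _, h0]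

theorem isW2Liftable_of_faithfullyFlat {A B : Type u} [CommRing A] [CommRing B] [Algebra k A]
    [Algebra.EssFiniteType k A] [Algebra k B] [Algebra A B] [IsScalarTower k A B]
    [Module.FaithfullyFlat A B] (hB : IsW2Liftable p k B) : IsW2Liftable p k A := by
  obtain ⟨P, _, _, ι, φ, hφ, hφι, hlift⟩ := exists_presentation p k A
  obtain ⟨B', _, ιB, πB, hB⟩ := hB
  have hu : ∀ x, IsUnit (πB x) → IsUnit x := by
    intro x hx
    obtain ⟨u, hu⟩ := hx
    obtain ⟨y, hy⟩ := hB.surj (↑u⁻¹ : B)
    have h0 : πB (x * y - 1) = 0 := by rw [map_sub, map_mul, map_one, ← hu, hy, Units.mul_inv, sub_self]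
    change _ ∈ RingHom.ker πB at h0
    rw [(isLift_iff.1 hB).2.1, Ideal.mem_span_singleton] at h0
    obtain ⟨z, hz⟩ := h0
    have hn : IsNilpotent (x * y - 1) := ⟨2, by rw [hz, mul_pow, sq (p : B'), mul_p_eq_zero ιB, zero_mul]⟩
    have := hn.isUnit_add_left_of_commute isUnit_one (Commute.all _ _)
    rw [add_sub_cancel] at this
    exact isUnit_of_mul_isUnit_left this
  obtain ⟨ψ, hψ⟩ := hlift B' B ιB πB hB.surj hu (by
    rw [hB.comm, IsScalarTower.algebraMap_eq k A B, RingHom.comp_assoc])
  obtain ⟨θB, hadd, hmul, h1⟩ := exists_form_of_lift φ hB ψ hψ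
  obtain ⟨m, e, he⟩ := Submodule.fg_iff_exists_fin_generating_family.1
    (IsNoetherian.noetherian (RingHom.ker φ))
  have hek : ∀ j, φ (e j) = 0 := fun j => by
    show e j ∈ RingHom.ker φ
    rw [← he]; exact Submodule.subset_span ⟨j, rfl⟩
  have hgen : ∀ x, φ x = 0 → ∃ c : Fin m → P, x = ∑ j, c j * e j := by
    intro x hx
    have : x ∈ Submodule.span P (Set.range e) := by rw [he]; exact hx
    obtain ⟨c, hc⟩ := (Submodule.mem_span_range_iff_exists_fun P).1 this
    exact ⟨c, by simp [← hc, smul_eq_mul]⟩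
  let Rel : Submodule P (Fin m → P) := LinearMap.ker (Fintype.linearCombination P e)
  obtain ⟨l, rel, hrel⟩ := Submodule.fg_iff_exists_fin_generating_family.1 (IsNoetherian.noetherian Rel)
  have hrel0 : ∀ c : Fin m → P, c ∈ Rel ↔ ∑ j, c j * e j = 0 := fun c => by
    simp [Rel, Fintype.linearCombination_apply]
  have hsum : ∀ c : Fin m → P, θB (∑ j, c j * e j) = ∑ j, algebraMap A B (φ (c j)) * θB (e j) := by
    intro c
    classical
    have hh : ∀ s : Finset (Fin m), φ (∑ j ∈ s, c j * e j) = 0 ∧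
        θB (∑ j ∈ s, c j * e j) = ∑ j ∈ s, algebraMap A B (φ (c j)) * θB (e j) := by
      intro s
      induction s using Finset.induction_on with
      | empty =>
        refine ⟨by simp, ?_⟩
        simpa using hmul 0 0 (map_zero φ)
      | insert a s ha ih =>
        rw [Finset.sum_insert ha, Finset.sum_insert ha]
        have ha' : φ (c a * e a) = 0 := by rw [map_mul, hek, mul_zero]
        exact ⟨by rw [map_add, ha', ih.1, add_zero], by rw [hadd _ _ ha' ih.1, hmul _ _ (hek a), ih.2]⟩
    exact (hh Finset.univ).2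
  obtain ⟨cp, hcp⟩ := hgen (p : P) (map_p_eq_zero ι φ hφι)
  let G : (Fin m → A) →ₗ[A] ((Fin l → A) × A) :=
    (LinearMap.pi fun i => Fintype.linearCombination A fun j => φ (rel i j)).prod
      (Fintype.linearCombination A fun j => φ (cp j))
  have hG : ∀ x, G x = (fun i => ∑ j, x j * φ (rel i j), ∑ j, x j * φ (cp j)) := fun x => by
    refine Prod.ext (funext fun i => ?_) ?_ <;> simp [G, Fintype.linearCombination_apply]
  obtain ⟨v, hv⟩ := exists_solution_of_faithfullyFlat (B := B) G (0, 1) (fun j => θB (e j)) (by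
    apply (TensorProduct.prodRight A B B (Fin l → A) A).injective
    refine Prod.ext ?_ ?_
    · apply (TensorProduct.piScalarRight A B B (Fin l)).injective
      funext i
      have h0 := hsum (rel i)
      rw [(hrel0 _).1 (hrel ▸ Submodule.subset_span ⟨i, rfl⟩),
        show θB 0 = 0 by simpa using hmul 0 0 (map_zero φ)] at h0
      simp only [map_sum, TensorProduct.prodRight_tmul, Prod.fst_sum, Finset.sum_apply,
        TensorProduct.piScalarRight_apply, TensorProduct.piScalarRightHom_tmul, hG, Algebra.smul_def]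
      simp [Pi.single_apply, apply_ite (algebraMap A B), ← h0]
    · apply (TensorProduct.rid A B).injective
      have h0 := hsum cp
      rw [← hcp, h1] at h0
      simp only [map_sum, TensorProduct.prodRight_tmul, Prod.snd_sum, TensorProduct.rid_tmul, hG,
        Algebra.smul_def]
      simp [Pi.single_apply, apply_ite (algebraMap A B), ← h0])
  rw [hG, Prod.mk.injEq] at hv
  have hwd : ∀ c : Fin m → P, ∑ j, c j * e j = 0 → ∑ j, φ (c j) * v j = 0 := by
    intro c hc
    have hc' : c ∈ Submodule.span P (Set.range rel) := by rw [hrel]; exact (hrel0 c).2 hc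
    obtain ⟨d, rfl⟩ := (Submodule.mem_span_range_iff_exists_fun P).1 hc'
    simp only [Finset.sum_apply, Pi.smul_apply, smul_eq_mul, map_sum, map_mul, Finset.sum_mul]
    rw [Finset.sum_comm]
    refine Finset.sum_eq_zero fun i _ => ?_
    rw [← mul_zero (φ (d i)), ← show ∑ j, v j * φ (rel i j) = 0 from congrFun hv.1 i, Finset.mul_sum]
    exact Finset.sum_congr rfl fun j _ => by ring
  classical
  let θ : P → A := fun x => if hx : φ x = 0 then ∑ j, φ ((hgen x hx).choose j) * v j else 0
  have hθ : ∀ (x : P) (c : Fin m → P), x = ∑ j, c j * e j → θ x = ∑ j, φ (c j) * v j := by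
    intro x c hc
    have hx : φ x = 0 := by simp [hc, hek]
    simp only [θ, dif_pos hx]
    rw [← sub_eq_zero, ← Finset.sum_sub_distrib]
    refine (Finset.sum_congr rfl fun j _ => ?_).trans (hwd ((hgen x hx).choose - c) ?_)
    · rw [Pi.sub_apply, map_sub, sub_mul]
    · simp only [Pi.sub_apply, sub_mul, Finset.sum_sub_distrib]
      rw [← (hgen x hx).choose_spec, ← hc, sub_self]
  refine isW2Liftable_of_form ι φ hφ hφι θ (fun x y hx hy => ?_) (fun y x hx => ?_) ?_
  · obtain ⟨c, hc⟩ := hgen x hx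
    obtain ⟨d, hd⟩ := hgen y hy
    rw [hθ x c hc, hθ y d hd, hθ (x + y) (c + d) (by
      simp only [Pi.add_apply, add_mul, Finset.sum_add_distrib, ← hc, ← hd])]
    simp only [Pi.add_apply, map_add, add_mul, Finset.sum_add_distrib]
  · obtain ⟨c, hc⟩ := hgen x hx
    rw [hθ x c hc, hθ (y * x) (fun j => y * c j) (by
      rw [hc, Finset.mul_sum]; exact Finset.sum_congr rfl fun j _ => by ring)]
    simp only [map_mul, Finset.mul_sum, mul_assoc]
  · rw [hθ (p : P) cp hcp, ← hv.2]
    exact Finset.sum_congr rfl fun j _ => by ring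

end Descent

end Groth.Agent.W2Lift
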