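import Groth.Agent.Lib.W2Lift.Frob
import Mathlib.RingTheory.WittVector.Teichmuller

/-!
Arithmetic of Witt vectors of length two in coordinates.
-/

universe u v

open MvPolynomial

namespace Groth.Agent.W2Lift

open FrobAlg

set_option linter.unusedSectionVars false

variable {p : ℕ} [hp : Fact p.Prime]

lemma ghost_one {R : Type*} [CommRing R] (x : WittVector p R) :
    WittVector.ghostComponent 1 x = x.coeff 0 ^ p + (p : R) * x.coeff 1 := by
  rw [WittVector.ghostComponent_apply, aeval_wittPolynomial, Finset.sum_range_succ, Finset.sum_range_one]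
  simp

lemma witt_coeff_one {R : Type u} [CommRing R] (x y : WittVector p R) :
    (x + y).coeff 1 = x.coeff 1 + y.coeff 1 - cross p (x.coeff 0) (y.coeff 0) ∧
      (x * y).coeff 1 = x.coeff 0 ^ p * y.coeff 1 + x.coeff 1 * y.coeff 0 ^ p +
        (p : R) * (x.coeff 1 * y.coeff 1) := by
  let f : MvPolynomial R ℤ →+* R := eval₂Hom (Int.castRingHom R) id
  have hf : Function.Surjective f := fun r => ⟨X r, eval₂Hom_X' _ _ r⟩
  obtain ⟨X', rfl⟩ := WittVector.map_surjective f hf x
  obtain ⟨Y', rfl⟩ := WittVector.map_surjective f hf y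
  have hp0 : (p : MvPolynomial R ℤ) ≠ 0 := Nat.cast_ne_zero.2 hp.out.ne_zero
  have h1 : (X' + Y').coeff 1 = X'.coeff 1 + Y'.coeff 1 - cross p (X'.coeff 0) (Y'.coeff 0) := by
    have h := map_add (WittVector.ghostComponent 1) X' Y'
    rw [ghost_one, ghost_one, ghost_one, WittVector.add_coeff_zero, add_pow_cross] at h
    apply mul_left_cancel₀ hp0
    linear_combination h
  have h2 : (X' * Y').coeff 1 = X'.coeff 0 ^ p * Y'.coeff 1 + X'.coeff 1 * Y'.coeff 0 ^ p +
      (p : MvPolynomial R ℤ) * (X'.coeff 1 * Y'.coeff 1) := by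
    have h := map_mul (WittVector.ghostComponent 1) X' Y'
    rw [ghost_one, ghost_one, ghost_one, WittVector.mul_coeff_zero, mul_pow] at h
    apply mul_left_cancel₀ hp0
    linear_combination h
  refine ⟨?_, ?_⟩
  · rw [← map_add, WittVector.map_coeff, h1]
    simp [WittVector.map_coeff, map_cross]
  · rw [← map_mul, WittVector.map_coeff, h2]
    simp [WittVector.map_coeff]

variable {R : Type u} [CommRing R]

lemma coeff_one_add (x y : W2 p R) :
    (x + y).coeff 1 = x.coeff 1 + y.coeff 1 - cross p (x.coeff 0) (y.coeff 0) := by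
  obtain ⟨X', rfl⟩ := WittVector.truncate_surjective p 2 R x
  obtain ⟨Y', rfl⟩ := WittVector.truncate_surjective p 2 R y
  simp only [← map_add, WittVector.coeff_truncate]
  exact (witt_coeff_one X' Y').1

lemma coeff_one_mul (x y : W2 p R) :
    (x * y).coeff 1 = x.coeff 0 ^ p * y.coeff 1 + x.coeff 1 * y.coeff 0 ^ p +
      (p : R) * (x.coeff 1 * y.coeff 1) := by
  obtain ⟨X', rfl⟩ := WittVector.truncate_surjective p 2 R x
  obtain ⟨Y', rfl⟩ := WittVector.truncate_surjective p 2 R y
  simp only [← map_mul, WittVector.coeff_truncate]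
  exact (witt_coeff_one X' Y').2

lemma coeff_zero_add (x y : W2 p R) : (x + y).coeff 0 = x.coeff 0 + y.coeff 0 := by
  simpa using map_add (res p R) x y

lemma coeff_zero_mul (x y : W2 p R) : (x * y).coeff 0 = x.coeff 0 * y.coeff 0 := by
  simpa using map_mul (res p R) x y

lemma coeff_one_of_one : (1 : W2 p R).coeff 1 = 0 := by
  rw [← map_one (WittVector.truncate (p := p) (R := R) 2), WittVector.coeff_truncate]
  exact WittVector.one_coeff_eq_of_pos p R 1 one_pos

lemma coeff_zero_of_one : (1 : W2 p R).coeff 0 = 1 := by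
  simpa using map_one (res p R)

lemma ext2 {x y : W2 p R} (h0 : x.coeff 0 = y.coeff 0) (h1 : x.coeff 1 = y.coeff 1) : x = y :=
  TruncatedWittVector.ext fun i => by fin_cases i <;> assumption

lemma cross_zero_right (a : R) : cross p a 0 = 0 := by simp [cross]

lemma cross_zero_left (a : R) : cross p 0 a = 0 := by simp [cross]

lemma coeff_one_pow (x : W2 p R) (hpR : (p : R) = 0) :
    ∀ n : ℕ, (x ^ n).coeff 0 = x.coeff 0 ^ n ∧
      (x ^ n).coeff 1 = (n : R) * x.coeff 0 ^ (p * (n - 1)) * x.coeff 1 := by
  intro n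
  induction n with
  | zero => simp [coeff_zero_of_one, coeff_one_of_one]
  | succ n ih =>
    rw [pow_succ, coeff_zero_mul, coeff_one_mul, ih.1, ih.2, hpR, pow_succ]
    refine ⟨rfl, ?_⟩
    cases n with
    | zero => simp
    | succ m =>
      simp only [Nat.add_sub_cancel, Nat.mul_succ, pow_add, Nat.cast_succ]
      ring

variable {k : Type u} [Field k] [CharP k p] [PerfectRing k p]

/-- `σ w = w ^ p + p * [w₁]`. -/
lemma sigma_decomp (w u : W2 p k) (hu : sigma p k w - w ^ p = u * (p : W2 p k)) :
    u.coeff 0 = w.coeff 1 := by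
  have h : sigma p k w = w ^ p + u * (p : W2 p k) := by rw [← hu]; ring
  have h1 := congrArg (fun z : W2 p k => z.coeff 1) h
  simp only [WittGrp.coeff_frob, coeff_one_add, (coeff_mul_p u).1, (coeff_mul_p u).2, cross_zero_right,
    (coeff_one_pow w (CharP.cast_eq_zero k p) p).2, CharP.cast_eq_zero, zero_mul, zero_add, sub_zero] at h1
  exact ((PerfectRing.bijective_frobenius (R := k) (p := p)).1 h1).symm

/-- A lift of Frobenius is the same as a section `B → W₂(A)` over `A`. -/
theorem frobLift_iff {A B : Type v} [CommRing A] [Algebra k A] [CommRing B]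
    {ι : W2 p k →+* B} {π : B →+* A} (hB : IsLift p k A B ι π) :
    (∃ Φ : B →+* B, IsFrobLift p k A B ι π Φ) ↔
      ∃ θ : B →+* W2 p A, (res p A).comp θ = π ∧ θ.comp ι = WittGrp.truncMap p 2 (algebraMap k A) := by
  obtain ⟨hs, hker, htor, hcomm⟩ := isLift_iff.1 hB
  have hpA : (p : A) = 0 := by rw [← map_natCast (algebraMap k A), CharP.cast_eq_zero, map_zero]
  have hπp : π (p : B) = 0 := by rw [map_natCast, hpA]
  have hπι : ∀ w, π (ι w) = algebraMap k A (w.coeff 0) := fun w => by
    rw [← RingHom.comp_apply, hcomm, RingHom.comp_apply, res_apply]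
  have hpp := mul_p_eq_zero (k := k) (p := p) ι
  constructor
  · rintro ⟨Φ, hΦ⟩
    have hred : ∀ b, π (Φ b - b ^ p) = 0 := fun b => by rw [map_sub, hΦ.red, map_pow, sub_self]
    choose y hy using fun b => hs (divP hB (Φ b - b ^ p))
    have hΦy : ∀ b, Φ b = b ^ p + (p : B) * y b := fun b => by
      rw [← divP_spec hB (hred b) (hy b)]; ring
    let θ0 : B → W2 p A := fun b => TruncatedWittVector.mk p ![π b, π (y b)]
    have h0 : ∀ b, (θ0 b).coeff 0 = π b := fun b => by simp [θ0]
    have h1 : ∀ b, (θ0 b).coeff 1 = π (y b) := fun b => by simp [θ0]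
    have hu : ∀ {b z}, Φ b = b ^ p + (p : B) * z → π (y b) = π z := fun {b z} h => by
      have := htor (y b - z) (by linear_combination h - hΦy b)
      rwa [map_sub, sub_eq_zero] at this
    refine ⟨{ toFun := θ0, map_one' := ?_, map_zero' := ?_, map_mul' := fun a b => ?_,
              map_add' := fun a b => ?_ }, RingHom.ext fun b => (res_apply p A _).trans (h0 b),
            RingHom.ext fun w => ?_⟩
    · refine ext2 (by rw [h0, map_one, coeff_zero_of_one]) ?_
      rw [h1, coeff_one_of_one, hu (z := 0) (by simp), map_zero]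
    · refine ext2 (by simp only [h0, coeff_zero_mul, map_mul]) ?_
      rw [coeff_one_mul, h1, h1, h1, h0, h0, hpA, zero_mul, add_zero,
        hu (z := a ^ p * y b + y a * b ^ p) (by
          rw [map_mul, hΦy, hΦy, mul_pow]; linear_combination (y a * y b) * hpp)]
      simp
    · refine ext2 (by rw [h0, map_zero, TruncatedWittVector.coeff_zero]) ?_
      rw [h1, TruncatedWittVector.coeff_zero, hu (z := 0) (by simp [hp.out.ne_zero]), map_zero]
    · refine ext2 (by simp only [h0, coeff_zero_add, map_add]) ?_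
      rw [coeff_one_add, h1, h1, h1, h0, h0, hu (z := y a + y b - cross p a b) (by
          rw [map_add, hΦy, hΦy, add_pow_cross a b]; ring)]
      simp [map_cross]
    · show θ0 (ι w) = _
      refine ext2 (by rw [h0, WittGrp.coeff_truncMap, hπι]) ?_
      obtain ⟨u, hu'⟩ : ∃ u, sigma p k w - w ^ p = u * (p : W2 p k) := exists_eq_mul_p (by
        rw [map_sub, map_pow, res_apply, res_apply, WittGrp.coeff_frob, sub_self])
      rw [h1, WittGrp.coeff_truncMap, hu (z := ι u) (by
        rw [← RingHom.comp_apply, hΦ.semi, RingHom.comp_apply, eq_add_of_sub_eq hu', map_add, map_mul,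
          map_natCast, map_pow]
        ring), hπι, sigma_decomp w u hu']
  · rintro ⟨θ, hθ, hθι⟩
    have hθ0 : ∀ b, (θ b).coeff 0 = π b := fun b => by
      rw [← res_apply, ← RingHom.comp_apply, hθ]
    let s := Function.surjInv hs
    have hpz : ∀ z z', π z = π z' → (p : B) * z = (p : B) * z' := fun z z' h => by
      have : z - z' ∈ RingHom.ker π := by rw [RingHom.mem_ker, map_sub, h, sub_self]
      rw [hker, Ideal.mem_span_singleton] at this
      obtain ⟨c, hc⟩ := this
      rw [← sub_eq_zero, ← mul_sub, hc, ← mul_assoc, hpp, zero_mul]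
    have hπs : ∀ a, π (s a) = a := Function.surjInv_eq hs
    refine ⟨{ toFun := fun b => b ^ p + (p : B) * s ((θ b).coeff 1),
              map_one' := ?_, map_zero' := ?_, map_mul' := fun a b => ?_, map_add' := fun a b => ?_ },
            { toIsLift := hB, semi := RingHom.ext fun w => ?_, red := fun b => ?_ }⟩
    · rw [map_one, coeff_one_of_one, hpz (s 0) 0 (by rw [hπs, map_zero])]; simp
    · rw [map_mul, coeff_one_mul, hθ0, hθ0, hpA, zero_mul, add_zero,
        hpz (s _) (a ^ p * s ((θ b).coeff 1) + s ((θ a).coeff 1) * b ^ p) (by simp [hπs])]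
      linear_combination -(s ((θ a).coeff 1) * s ((θ b).coeff 1)) * hpp
    · rw [map_zero, TruncatedWittVector.coeff_zero, hpz (s 0) 0 (by rw [hπs, map_zero])]
      simp [hp.out.ne_zero]
    · rw [map_add, coeff_one_add, hθ0, hθ0,
        hpz (s _) (s ((θ a).coeff 1) + s ((θ b).coeff 1) - cross p a b) (by simp [hπs, map_cross]),
        add_pow_cross a b]
      ring
    · show ι w ^ p + (p : B) * s ((θ (ι w)).coeff 1) = ι (sigma p k w)
      obtain ⟨u, hu'⟩ : ∃ u, sigma p k w - w ^ p = u * (p : W2 p k) := exists_eq_mul_p (by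
        rw [map_sub, map_pow, res_apply, res_apply, WittGrp.coeff_frob, sub_self])
      rw [← RingHom.comp_apply θ, hθι, WittGrp.coeff_truncMap,
        hpz (s _) (ι u) (by rw [hπs, hπι, sigma_decomp w u hu']), eq_add_of_sub_eq hu', map_add, map_mul,
        map_natCast, map_pow]
      ring
    · show π (b ^ p + (p : B) * _) = _
      rw [map_add, map_mul, hπp, zero_mul, add_zero, map_pow]

end Groth.Agent.W2Lift
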